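import Groth.Agent.DEquiv.K351.LinK
import Groth.Agent.Dual.H379.TensBound
import Groth.Agent.Htor.H250.TensCohPc
import Groth.Agent.PerfC.RpushBdd
import Groth.Agent.PerfA.BddDev
import Groth.Agent.Dcoh.LocalD
import Groth.Agent.PerfA.UnitOU
import Groth.Agent.Dcoh.CompactAll
import Groth.Agent.Dcoh.CompactDual
import Groth.Agent.Dcoh.MonSymm293
import Groth.Agent.Ega3B.DevQC
import Groth.Agent.PerfB.FibreZero
import Groth.Agent.S0007
import Groth.Agent.S1006
import Groth.Prelude.Def_SGA6

/-!
# Finiteness of `Hom(E, K)` for `X` proper over a field, `E` perfect, `K` in `D^b_coh`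
-/

set_option autoImplicit false

universe u

open CategoryTheory CategoryTheory.Limits AlgebraicGeometry MonoidalCategory Pretriangulated

attribute [local instance] HasDerivedCategory.standard

namespace K351.FinHom

open Groth.Agent Groth.Agent.Dcoh Groth.Agent.PerfA Groth.Agent.PerfA.CohSerre

section Abs

variable {k : Type*} [Field k] {C : Type*} [Category* C] [Preadditive C] [Linear k C]
  [HasZeroObject C] [HasShift C ℤ] [∀ n : ℤ, (shiftFunctor C n).Additive] [Pretriangulated C]

/-- Finiteness of `Hom(E, -)` is stable under extensions. -/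
theorem finite_ext (E : C) (T : Triangle C) (hT : T ∈ distTriang C)
    (h1 : Module.Finite k (E ⟶ T.obj₁)) (h3 : Module.Finite k (E ⟶ T.obj₃)) :
    Module.Finite k (E ⟶ T.obj₂) := by
  let f : (E ⟶ T.obj₁) →ₗ[k] (E ⟶ T.obj₂) := Linear.rightComp k E T.mor₁
  let g : (E ⟶ T.obj₂) →ₗ[k] (E ⟶ T.obj₃) := Linear.rightComp k E T.mor₂
  have hfg : LinearMap.ker g ≤ LinearMap.range f := by
    intro x hx
    obtain ⟨y, hy⟩ := Triangle.coyoneda_exact₂ T hT x hx
    exact ⟨y, hy.symm⟩
  have h4 : Module.Finite k (LinearMap.ker g) :=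
    Module.Finite.of_injective (Submodule.inclusion hfg) (Submodule.inclusion_injective hfg)
  refine ⟨Submodule.fg_of_fg_map_of_fg_inf_ker g ?_ ?_⟩
  · exact IsNoetherian.noetherian _
  · rw [top_inf_eq]
    exact Module.Finite.iff_fg.1 h4

end Abs

section Spec

variable (k : Type u) [Field k]

lemma over_self : (Spec (CommRingCat.of k) ↘ Spec (CommRingCat.of k)) = 𝟙 _ := by
  change Spec.map (CommRingCat.ofHom (algebraMap k k)) = _
  rw [Algebra.algebraMap_self]
  exact Spec.map_id _

lemma surjective_glob : Function.Surjective (LinK.glob k (Spec (CommRingCat.of k))) := by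
  have h : IsIso ((Scheme.ΓSpecIso (CommRingCat.of k)).inv ≫
      (Spec (CommRingCat.of k) ↘ Spec (CommRingCat.of k)).appTop) := by
    have : IsIso (Spec (CommRingCat.of k) ↘ Spec (CommRingCat.of k)) := by
      rw [over_self]
      infer_instance
    have h2 : IsIso (Spec (CommRingCat.of k) ↘ Spec (CommRingCat.of k)).appTop := by
      rw [over_self, Scheme.Hom.id_appTop]
      infer_instance
    exact @IsIso.comp_isIso _ _ _ _ _ _ _ inferInstance h2
  exact (@ConcreteCategory.bijective_of_isIso _ _ _ _ _ _ _ _ ((Scheme.ΓSpecIso (CommRingCat.of k)).inv ≫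
      (Spec (CommRingCat.of k) ↘ Spec (CommRingCat.of k)).appTop) h).2

/-- `Hom(O, F)` is finite dimensional for `F` coherent on `Spec k`. -/
theorem finite_hom_mod (F : (Spec (CommRingCat.of k)).Modules) (hF : Coh.IsCoh F) :
    Module.Finite k (Coh.structureModule (Spec (CommRingCat.of k)) ⟶ F) := by
  have h1 : Module.Finite Γ(Spec (CommRingCat.of k), ⊤) Γ(F, ⊤) :=
    Ega3B.DevQC.finite_sections hF (isAffineOpen_top _)
  let φ : k →+* Γ(Spec (CommRingCat.of k), ⊤) := LinK.glob k (Spec (CommRingCat.of k))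
  have hφ : Function.Surjective φ := surjective_glob k
  let _ : Module k Γ(F, ⊤) := Module.compHom _ φ
  have h2 : Module.Finite k Γ(F, ⊤) := by
    let _ : Algebra k Γ(Spec (CommRingCat.of k), ⊤) := φ.toAlgebra
    have : IsScalarTower k Γ(Spec (CommRingCat.of k), ⊤) Γ(F, ⊤) := ⟨fun a b c => by
      change (φ a * b) • c = φ a • b • c
      exact mul_smul _ _ _⟩
    have : Module.Finite k Γ(Spec (CommRingCat.of k), ⊤) :=
      Module.Finite.of_surjective (Algebra.linearMap k _) hφ
    exact Module.Finite.trans Γ(Spec (CommRingCat.of k), ⊤) Γ(F, ⊤)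
  let e : (Coh.structureModule (Spec (CommRingCat.of k)) ⟶ F) →ₗ[k] Γ(F, ⊤) :=
    { toFun := Restrict.unitEquiv F
      map_add' := (Restrict.unitEquiv F).map_add
      map_smul' := fun a f => by
        change (a • f).app ⊤ (Restrict.one ⊤) = φ a • f.app ⊤ (Restrict.one ⊤)
        rw [LinK.smul_mod, LoccohB.SectLin303.smul_app]
        refine congrArg (fun z => z • f.app ⊤ (Restrict.one ⊤)) ?_
        exact ConcreteCategory.congr_hom
          ((Spec (CommRingCat.of k)).presheaf.map_id (Opposite.op ⊤)) (φ a) }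
  exact Module.Finite.of_injective e (Restrict.unitEquiv F).injective

theorem finite_hom_single (F : (Spec (CommRingCat.of k)).Modules) (hF : Coh.IsCoh F) (n : ℤ) :
    Module.Finite k (DCoh.inD (Spec (CommRingCat.of k)) (Coh.structureModule _) ⟶
      (DerivedCategory.singleFunctor _ n).obj F) := by
  rcases lt_trichotomy n 0 with hn | rfl | hn
  · have hz : ∀ f : DCoh.inD (Spec (CommRingCat.of k)) (Coh.structureModule _) ⟶
        (DerivedCategory.singleFunctor _ n).obj F, f = 0 := by
      intro f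
      obtain ⟨m, hm⟩ := Int.exists_eq_neg_ofNat hn.le
      have : Coh.IsQCoh F := hF.1
      have h := CompactAll.hom_OU_eq_zero m F (S0007.result _ F m (by omega)) 0 n (by omega)
        ((DerivedCategory.singleFunctor _ 0).map (UnitOU.unitIsoOU _).inv ≫ f)
      rw [← cancel_epi ((DerivedCategory.singleFunctor _ 0).map (UnitOU.unitIsoOU _).inv), h,
        comp_zero]
    have : Subsingleton (DCoh.inD (Spec (CommRingCat.of k)) (Coh.structureModule _) ⟶
        (DerivedCategory.singleFunctor _ n).obj F) := ⟨fun f g => (hz f).trans (hz g).symm⟩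
    infer_instance
  · have := finite_hom_mod k F hF
    exact Module.Finite.equiv (LinK.ffLin (R := k)
      (DerivedCategory.singleFunctor (Spec (CommRingCat.of k)).Modules 0)
      (Functor.FullyFaithful.ofFullyFaithful _) (Coh.structureModule _) F)
  · have hz : ∀ f : DCoh.inD (Spec (CommRingCat.of k)) (Coh.structureModule _) ⟶
        (DerivedCategory.singleFunctor _ n).obj F, f = 0 := fun f =>
      DerivedCategory.TStructure.t.zero f 0 n hn
    have : Subsingleton (DCoh.inD (Spec (CommRingCat.of k)) (Coh.structureModule _) ⟶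
        (DerivedCategory.singleFunctor _ n).obj F) := ⟨fun f g => (hz f).trans (hz g).symm⟩
    infer_instance

theorem finite_hom_spec (M : DCoh.D (Spec (CommRingCat.of k))) (a b : ℤ) (ha : M.IsGE a)
    (hb : M.IsLE b) (hM : DCoh.IsCohD M) :
    Module.Finite k (DCoh.inD (Spec (CommRingCat.of k)) (Coh.structureModule _) ⟶ M) := by
  refine BddDev.devissage (cohp (Spec (CommRingCat.of k)))
    (fun M => Module.Finite k (DCoh.inD (Spec (CommRingCat.of k)) (Coh.structureModule _) ⟶ M))
    ?_ ?_ ?_ M a b hM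
  · intro K L e hK
    exact Module.Finite.equiv (LinK.isoLin (R := k) (Iso.refl _) e)
  · intro F n hF
    exact finite_hom_single k F hF n
  · intro T hT h1 h3
    exact finite_ext _ T hT h1 h3

end Spec

section Proper

variable {k : Type u} [Field k] {X : Scheme.{u}} [X.Over (Spec (CommRingCat.of k))]

variable (k X) in
/-- A scheme proper over a field is Noetherian. -/
theorem isNoetherian_of_proper [IsProper (X ↘ Spec (CommRingCat.of k))] : IsNoetherian X := by
  have : IsLocallyNoetherian X :=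
    LocallyOfFiniteType.isLocallyNoetherian (X ↘ Spec (CommRingCat.of k))
  have : CompactSpace X :=
    (quasiCompact_iff_compactSpace (X ↘ (Spec (CommRingCat.of k)))).mp inferInstance
  exact {}

lemma isProperOver_of_isProper {S : Scheme.{u}} (f : X ⟶ S) [IsProper f] {Z : Set X}
    (hZ : IsClosed Z) : ClSub.IsProperOver f Z := ⟨hZ, inferInstance⟩

/-- `Hom(O_X, L)` is finite dimensional for `L` in `D^b_coh(X)`, `X` proper over `k`. -/
theorem finite_hom_structure [IsProper (X ↘ Spec (CommRingCat.of k))] (L : DCoh.D X)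
    (hL : SGA6.cohbP X L) :
    Module.Finite k (DCoh.inD X (Coh.structureModule X) ⟶ L) := by
  obtain ⟨hLc, a, b, ha, hb⟩ := hL
  let f := X ↘ Spec (CommRingCat.of k)
  have hN : IsNoetherian (Spec (CommRingCat.of k)) := inferInstance
  have h1 : DCoh.HasRpush f := DerSch.hasRpush f
  have h2 : DCoh.HasLpull f := DerPull.hasLpull f
  let adj := DerPull.lpullAdj f
  let _ := DerPull.lpullCommShift f
  have h3 : (DCoh.Lpull f).IsTriangulated := DerPull.lpull_isTriangulated f
  have h4 : (DCoh.Rpush f).Additive := adj.right_adjoint_additive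
  have h0 : f.IsOver (Spec (CommRingCat.of k)) := ⟨by
    rw [over_self]
    exact Category.comp_id _⟩
  have h5 : (DCoh.Rpush f).Linear k := LinK.linear_Rpush f
  obtain ⟨hc, hge, b', hle⟩ := PerfC.RpushBdd.main f L a b hLc
    (fun i => isProperOver_of_isProper f (Ega3B.Devissage.isClosed_support (hLc i)))
  have h6 := finite_hom_spec k ((DCoh.Rpush f).obj L) a b' hge hle hc
  have h7 : Module.Finite k ((DCoh.Lpull f).obj (DCoh.inD _ (Coh.structureModule _)) ⟶ L) :=
    Module.Finite.equiv (LinK.adjLin (R := k) adj (DCoh.inD _ (Coh.structureModule _)) L).symm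
  exact Module.Finite.equiv (LinK.isoLin (R := k) (PerfB.FibreZero.lpullStructure f) (Iso.refl L))

open scoped Groth.Agent.Dcoh.MonCat Groth.Agent.Dcoh.ModD

omit [X.Over (Spec (CommRingCat.of k))] in
lemma cohb_of_iso {K L : DCoh.D X} (e : K ≅ L) (h : SGA6.cohbP X K) : SGA6.cohbP X L := by
  obtain ⟨h1, a, b, h2, h3⟩ := h
  exact ⟨fun i => isCoh_of_iso ((DerivedCategory.homologyFunctor _ i).mapIso e) (h1 i), a, b,
    DerivedCategory.TStructure.t.isGE_of_iso e a, DerivedCategory.TStructure.t.isLE_of_iso e b⟩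

omit [X.Over (Spec (CommRingCat.of k))] in
/-- Tensoring with a perfect object preserves `D^b_coh`. -/
theorem cohb_tensor_left [IsNoetherian X] (E K : DCoh.D X) (hE : DCoh.IsPerfect E)
    (hK : SGA6.cohbP X K) : SGA6.cohbP X (E ⊗ K) := by
  obtain ⟨hKc, a, b, ha, hb⟩ := hK
  obtain ⟨hEc, c, d, hc, hd⟩ := S1006.result X E hE
  obtain ⟨c', hc'⟩ := Dual.H379.TensBound.exists_bound E hE
  refine ⟨?_, c' + a, d + b, hc' K a, Dual.H379.TensBound.isLE_tensor E K d b⟩
  let K₀ := DerivedCategory.Q.objPreimage K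
  let e : DerivedCategory.Q.obj K₀ ≅ K := DerivedCategory.Q.objObjPreimageIso K
  have h0 : DCoh.HasLTensorCx K₀ := ModTens.hasLTensorCx K₀
  have h1 : (DCoh.toD X K₀).IsLE b := DerivedCategory.TStructure.t.isLE_of_iso e.symm b
  have h2 : DCoh.IsCohD (DCoh.toD X K₀) := fun i =>
    isCoh_of_iso ((DerivedCategory.homologyFunctor _ i).mapIso e.symm) (hKc i)
  have h3 := Htor.H250.TensCohPc.isCohD_LTensorCx K₀ b h1 h2 E
    (fun m => LocalD.isPseudoCoherentD_of_isPerfect m hE)
  have e2 : (DCoh.LTensorCx K₀).obj E ≅ E ⊗ K :=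
    (ModTens.LTensorCxIso K₀).app E ≪≫ (MonAdj.tensorRightIso e).app E
  exact fun i => isCoh_of_iso ((DerivedCategory.homologyFunctor _ i).mapIso e2) (h3 i)

omit [X.Over (Spec (CommRingCat.of k))] in
/-- Tensoring with a perfect object preserves `D^b_coh`. -/
theorem cohb_tensor_right [IsNoetherian X] (K E : DCoh.D X) (hK : SGA6.cohbP X K)
    (hE : DCoh.IsPerfect E) : SGA6.cohbP X (K ⊗ E) := by
  obtain ⟨s⟩ := MonSymm293.weakSymm E
  exact cohb_of_iso (s.app K) (cohb_tensor_left E K hE hK)

/-- `Hom(𝟙 ⊗ E, K) = Hom(𝟙, K ⊗ E')` linearly. -/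
noncomputable def pairLin (A E E' K : DCoh.D X) [ExactPairing E E'] :
    (A ⊗ E ⟶ K) ≃ₗ[k] (A ⟶ K ⊗ E') :=
  haveI : (tensorRight E').Linear k := LinK.linear_tensorRight (A := k) E'
  haveI : (tensorRight E : DCoh.D X ⥤ DCoh.D X).IsLeftAdjoint :=
    (tensorRightAdjunction E E').isLeftAdjoint
  haveI : (tensorRight E : DCoh.D X ⥤ DCoh.D X).Additive := CompactDual.additive_of_isLeftAdjoint _
  haveI : (tensorRight E' : DCoh.D X ⥤ DCoh.D X).Additive :=
    (tensorRightAdjunction E E').right_adjoint_additive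
  LinK.adjLin (R := k) (tensorRightAdjunction E E') A K

/-- `Hom(E, K)` is finite dimensional for `E` perfect, `K` in `D^b_coh(X)`, `X` proper over `k`. -/
theorem finite_hom [IsProper (X ↘ Spec (CommRingCat.of k))] (E K : DCoh.D X)
    (hE : DCoh.IsPerfect E) (hK : SGA6.cohbP X K) : Module.Finite k (E ⟶ K) := by
  have : IsNoetherian X := isNoetherian_of_proper k X
  obtain ⟨E', hE', ⟨hp⟩⟩ := PerfDual.exists_exactPairing E hE
  have h1 := finite_hom_structure (k := k) (K ⊗ E') (cohb_tensor_right K E' hK hE')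
  have h2 : Module.Finite k (𝟙_ (DCoh.D X) ⟶ K ⊗ E') :=
    Module.Finite.equiv (LinK.isoLin (R := k) (DualX.unitIso X) (Iso.refl _))
  have h3 : Module.Finite k (𝟙_ (DCoh.D X) ⊗ E ⟶ K) :=
    Module.Finite.equiv (pairLin (k := k) (𝟙_ (DCoh.D X)) E E' K).symm
  exact Module.Finite.equiv (LinK.isoLin (R := k) (λ_ E) (Iso.refl K))

end Proper

end K351.FinHom
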