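import Groth.Agent.Dual.H345.LinD
import Groth.Prelude.Def_KLin

/-!
# The `A`-linear structure of `D(O_X)` for `X` over `Spec A` (frozen `KLin`) and the library's
`Γ(X, ⊤)`-linear structure

* `glob A X a : Γ(X, ⊤)`; `smul_mod`, `smul_D : a • φ = glob a • φ`;
* `linear_Rpush`, `linear_tensorRight`, `linear_restrictD`, `linear_Lpull`;
* `adjLin`: the linear equivalence of an adjunction whose right adjoint is linear.
-/

set_option autoImplicit false

universe w v₁ v₂ u₁ u₂ u

open CategoryTheory CategoryTheory.Limits AlgebraicGeometry MonoidalCategory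

attribute [local instance] HasDerivedCategory.standard

namespace K351.LinK

open Groth.Agent.LoccohB.SectLin303

section Adj

variable {R : Type*} [Semiring R] {C : Type u₁} [Category.{v₁} C] [Preadditive C] [Linear R C]
  {D : Type u₂} [Category.{v₂} D] [Preadditive D] [Linear R D]

/-- The linear equivalence of an adjunction whose right adjoint is additive and linear. -/
noncomputable def adjLin {F : C ⥤ D} {G : D ⥤ C} (adj : F ⊣ G) [G.Additive] [G.Linear R]
    (X : C) (Y : D) : (F.obj X ⟶ Y) ≃ₗ[R] (X ⟶ G.obj Y) where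
  toFun := adj.homEquiv X Y
  invFun := (adj.homEquiv X Y).symm
  left_inv := (adj.homEquiv X Y).left_inv
  right_inv := (adj.homEquiv X Y).right_inv
  map_add' f g := by
    rw [Adjunction.homEquiv_unit, Adjunction.homEquiv_unit, Adjunction.homEquiv_unit, G.map_add,
      Preadditive.comp_add]
  map_smul' r f := by
    rw [Adjunction.homEquiv_unit, Adjunction.homEquiv_unit, G.map_smul, Linear.comp_smul,
      RingHom.id_apply]

/-- Transport of hom modules along isomorphisms. -/
noncomputable def isoLin {X X' Y Y' : C} (e : X ≅ X') (e' : Y ≅ Y') : (X ⟶ Y) ≃ₗ[R] (X' ⟶ Y') where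
  toFun f := e.inv ≫ f ≫ e'.hom
  invFun f := e.hom ≫ f ≫ e'.inv
  left_inv f := by simp
  right_inv f := by simp
  map_add' f g := by simp
  map_smul' r f := by simp

/-- A fully faithful linear functor induces linear equivalences. -/
noncomputable def ffLin (F : C ⥤ D) [F.Additive] [F.Linear R] (h : F.FullyFaithful) (X Y : C) :
    (X ⟶ Y) ≃ₗ[R] (F.obj X ⟶ F.obj Y) where
  toFun f := F.map f
  invFun g := h.preimage g
  left_inv f := h.preimage_map f
  right_inv g := h.map_preimage g
  map_add' _ _ := F.map_add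
  map_smul' _ _ := F.map_smul _ _

end Adj

section Glob

variable (A : Type u) [CommRing A] (X : Scheme.{u}) [X.Over (Spec (CommRingCat.of A))]

/-- The image of `a : A` in `Γ(X, O_X)`. -/
noncomputable def glob : A →+* Γ(X, ⊤) := Coh.toGlobal (X ↘ Spec (CommRingCat.of A))

variable {A X}

lemma smul_mod {M N : X.Modules} (a : A) (φ : M ⟶ N) :
    (a • φ : M ⟶ N) = (glob A X a : Γ(X, ⊤)) • φ := by
  apply Scheme.Modules.hom_ext
  intro U
  ext m
  rw [KLin.smul_app_apply, smul_app]
  rfl

lemma smul_cx {ι : Type*} {c : ComplexShape ι} {K L : HomologicalComplex X.Modules c} (a : A)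
    (φ : K ⟶ L) : (a • φ : K ⟶ L) = (glob A X a : Γ(X, ⊤)) • φ := by
  apply HomologicalComplex.hom_ext
  intro i
  exact smul_mod a (φ.f i)

lemma smul_D_id (K : DCoh.D X) (a : A) :
    (a • 𝟙 K : K ⟶ K) = (glob A X a : Γ(X, ⊤)) • 𝟙 K := by
  let F := DerivedCategory.Q.objPreimage K
  let e : DerivedCategory.Q.obj F ≅ K := DerivedCategory.Q.objObjPreimageIso K
  have h : (a • 𝟙 (DerivedCategory.Q.obj F)) =
      (glob A X a : Γ(X, ⊤)) • 𝟙 (DerivedCategory.Q.obj F) := by
    rw [← Q_map_smul_id, ← Q_map_smul_id, smul_cx]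
  have h1 : (a • 𝟙 K : K ⟶ K) = e.inv ≫ (a • 𝟙 (DerivedCategory.Q.obj F)) ≫ e.hom := by
    rw [Linear.smul_comp, Linear.comp_smul, Category.id_comp, e.inv_hom_id]
  rw [h1, h, Linear.smul_comp, Linear.comp_smul, Category.id_comp, e.inv_hom_id]

/-- The two linear structures on `D(O_X)` agree. -/
lemma smul_D {K L : DCoh.D X} (a : A) (φ : K ⟶ L) :
    (a • φ : K ⟶ L) = (glob A X a : Γ(X, ⊤)) • φ := by
  have h1 : (a • φ : K ⟶ L) = (a • 𝟙 K) ≫ φ := by rw [Linear.smul_comp, Category.id_comp]
  rw [h1, smul_D_id, Linear.smul_comp, Category.id_comp]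

end Glob

section Functors

variable {A : Type u} [CommRing A] {X Y : Scheme.{u}} [X.Over (Spec (CommRingCat.of A))]
  [Y.Over (Spec (CommRingCat.of A))]

lemma linear_of_inter {F : DCoh.D X ⥤ DCoh.D Y}
    (h : ∀ a : A, Inter F (glob A X a : Γ(X, ⊤)) (glob A Y a : Γ(Y, ⊤))) : F.Linear A where
  map_smul f a :=
    calc F.map (a • f) = F.map ((glob A X a : Γ(X, ⊤)) • f) := congrArg (fun z => F.map z) (smul_D a f)
      _ = (glob A Y a : Γ(Y, ⊤)) • F.map f := (h a).map_smul f
      _ = a • F.map f := (smul_D a (F.map f)).symm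

lemma glob_over (f : X ⟶ Y) [f.IsOver (Spec (CommRingCat.of A))] (a : A) :
    glob A X a = f.appTop (glob A Y a) := by
  refine Eq.trans ?_ (KLin.toGlobal_comp f (Y ↘ Spec (CommRingCat.of A)) a)
  rw [comp_over]
  rfl

/-- `Rf_*` is linear. -/
lemma linear_Rpush (f : X ⟶ Y) [f.IsOver (Spec (CommRingCat.of A))] [DCoh.HasRpush f] :
    (DCoh.Rpush f).Linear A :=
  linear_of_inter fun a => by
    rw [glob_over f a]
    exact inter_rpush f _

/-- `Lf^*` is linear. -/
lemma linear_Lpull (f : X ⟶ Y) [f.IsOver (Spec (CommRingCat.of A))] [DCoh.HasRpush f]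
    [DCoh.HasLpull f] (adj : DCoh.Lpull f ⊣ DCoh.Rpush f) : (DCoh.Lpull f).Linear A :=
  linear_of_inter fun a => by
    rw [glob_over f a]
    exact Groth.Agent.Dual.H345.LinD.inter_lpull f adj _

/-- Restriction to an open is linear. -/
lemma linear_restrictD (f : X ⟶ Y) [f.IsOver (Spec (CommRingCat.of A))] [IsOpenImmersion f] :
    (DCoh.restrictD f).Linear A :=
  linear_of_inter fun a => by
    rw [glob_over f a]
    exact inter_restrictD f _

open scoped Groth.Agent.Dcoh.MonCat Groth.Agent.Dcoh.ModD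

/-- `- ⊗ Z` is linear. -/
lemma linear_tensorRight (Z : DCoh.D X) : (tensorRight Z).Linear A :=
  linear_of_inter fun _ => Groth.Agent.Dual.H345.LinD.inter_tensorRight Z _

end Functors

end K351.LinK
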