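import Mathlib.CategoryTheory.Monoidal.Rigid.Basic
import Mathlib.CategoryTheory.Adjunction.Unique

/-!
# Duals in monoidal categories: double duals and duals of invertible objects
-/

set_option autoImplicit false

universe v u

open CategoryTheory MonoidalCategory

namespace K351.MonAux

variable {C : Type u} [Category.{v} C] [MonoidalCategory C]

/-- `- ⊗ A ≅ - ⊗ B` for `A ≅ B`. -/
def trIso {A B : C} (e : A ≅ B) : tensorRight A ≅ tensorRight B :=
  (curriedTensor C).flip.mapIso e

/-- The double dual. -/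
noncomputable def doubleDual (F F' F'' : C) [ExactPairing F F'] [ExactPairing F' F'']
    (s : tensorLeft F' ≅ tensorRight F') : F ≅ F'' :=
  let adj : tensorLeft F'' ⊣ tensorRight F' := (tensorLeftAdjunction F' F'').ofNatIsoRight s
  (λ_ F).symm ≪≫ ((tensorRightAdjunction F F').leftAdjointUniq adj).app (𝟙_ C) ≪≫ ρ_ F''

/-- The equivalence `- ⊗ S` for an invertible `S`. -/
noncomputable def eqv (S T : C) (e : S ⊗ T ≅ 𝟙_ C) (e' : T ⊗ S ≅ 𝟙_ C) : C ≌ C :=
  CategoryTheory.Equivalence.mk (tensorRight S) (tensorRight T)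
    ((rightUnitorNatIso C).symm ≪≫ trIso e.symm ≪≫ tensorRightTensor S T)
    ((tensorRightTensor T S).symm ≪≫ trIso e' ≪≫ rightUnitorNatIso C)

/-- The dual of an invertible object is its inverse. -/
noncomputable def dualInv (S T S' : C) (e : S ⊗ T ≅ 𝟙_ C) (e' : T ⊗ S ≅ 𝟙_ C)
    [ExactPairing S S'] : S' ≅ T :=
  let adj : tensorRight S ⊣ tensorRight T := (eqv S T e e').toAdjunction
  (λ_ S').symm ≪≫ ((tensorRightAdjunction S S').rightAdjointUniq adj).app (𝟙_ C) ≪≫ λ_ T

end K351.MonAux
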