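import Groth.Agent.Cohder.RelPCMon
import Groth.Agent.Dcoh.ModTens
import Groth.Agent.Dual.H492.TensShift
import Groth.Agent.DEquiv.K351.MonAux

/-!
# `- ⊗ᴸ G ≅ - ⊗ G[0]` as functors on `D(O_X)`, `G` a module
-/

set_option autoImplicit false

universe u

open CategoryTheory Limits MonoidalCategory AlgebraicGeometry

attribute [local instance] HasDerivedCategory.standard

open scoped Groth.Agent.Dcoh.MonCat Groth.Agent.Dcoh.ModD

namespace K351.LTModIso

open Groth.Agent.Dcoh Groth.Agent.Cohder.RelPCMon Groth.Agent.PerfC.DTens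

variable {X : Scheme.{u}}

/-- `- ⊗ᴸ G ≅ - ⊗ᴸ G[0]` for a module `G`. -/
theorem nonempty_cx (G : X.Modules) [DCoh.HasLTensorMod G] [DCoh.HasLTensorCx (sgl G)] :
    Nonempty (DCoh.LTensorMod G ≅ DCoh.LTensorCx (sgl G)) := by
  obtain ⟨s⟩ := LTMod.nonempty_singleIso' G
  let α := (DCoh.tensorCxQ (sgl G)).totalLeftDerivedCounit DerivedCategory.Q
    (HomologicalComplex.quasiIso X.Modules (ComplexShape.up ℤ))
  let γ : DerivedCategory.Q ⋙ DCoh.LTensorMod G ⟶ DCoh.tensorCxQ (sgl G) :=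
    { app := fun K => LDer.counitQ (DCoh.LTensorMod G) (LTMod.counit G) K ≫
        DerivedCategory.Q.map (s.hom.app K)
      naturality := fun K L f => by
        have h1 := LDer.counitQ_naturality (DCoh.LTensorMod G) (LTMod.counit G) f
        have h2 := congrArg (fun z => DerivedCategory.Q.map z) (s.hom.naturality f)
        simp only [Functor.map_comp] at h2
        change (DCoh.LTensorMod G).map (DerivedCategory.Q.map f) ≫
          LDer.counitQ (DCoh.LTensorMod G) (LTMod.counit G) L ≫ DerivedCategory.Q.map (s.hom.app L) =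
          (LDer.counitQ (DCoh.LTensorMod G) (LTMod.counit G) K ≫
            DerivedCategory.Q.map (s.hom.app K)) ≫
            DerivedCategory.Q.map ((DCoh.tensorCx.flip.obj (sgl G)).map f)
        rw [← Category.assoc, h1, Category.assoc, Category.assoc]
        exact congrArg (_ ≫ ·) h2 }
  let lam : DCoh.LTensorMod G ⟶ DCoh.LTensorCx (sgl G) :=
    (DCoh.LTensorCx (sgl G)).leftDerivedLift α
      (HomologicalComplex.quasiIso X.Modules (ComplexShape.up ℤ)) (DCoh.LTensorMod G) γ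
  have h1 : ∀ P : CochainComplex X.Modules ℤ, DCoh.IsKFlat P →
      IsIso (lam.app (DerivedCategory.Q.obj P)) := by
    intro P hP
    have hfac : lam.app (DerivedCategory.Q.obj P) ≫ α.app P = γ.app P :=
      (DCoh.LTensorCx (sgl G)).leftDerived_fac_app α
        (HomologicalComplex.quasiIso X.Modules (ComplexShape.up ℤ)) (DCoh.LTensorMod G) γ P
    have h2 : IsIso (α.app P) := (bifData X).isIso_β (sgl G) P hP
    have h3 : IsIso (LDer.counitQ (DCoh.LTensorMod G) (LTMod.counit G) P) :=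
      LDer.isIso_counitQ (LTMod.adapted G) (DCoh.LTensorMod G) (LTMod.counit G) hP
    have h4 : IsIso (γ.app P) := IsIso.comp_isIso' h3 inferInstance
    rw [← hfac] at h4
    exact IsIso.of_isIso_comp_right (lam.app (DerivedCategory.Q.obj P)) (α.app P)
  have h5 : ∀ K : DCoh.D X, IsIso (lam.app K) := by
    intro K
    obtain ⟨P, hP, ⟨e⟩⟩ := exists_kflat K
    have := h1 P hP
    exact (NatTrans.isIso_app_iff_of_iso lam e).1 this
  have h6 : IsIso lam := NatIso.isIso_of_isIso_app lam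
  exact ⟨asIso lam⟩

/-- `- ⊗ᴸ G ≅ - ⊗ G[0]` for a module `G`. -/
theorem nonempty_right (G : X.Modules) [DCoh.HasLTensorMod G] :
    Nonempty (DCoh.LTensorMod G ≅ tensorRight (DCoh.inD X G)) := by
  have := ModTens.hasLTensorCx (sgl G)
  obtain ⟨e⟩ := nonempty_cx G
  let e1 : DerivedCategory.Q.obj (sgl G) ≅ DCoh.inD X G :=
    ((DerivedCategory.singleFunctorIsoCompQ X.Modules 0).app G).symm
  exact ⟨e ≪≫ ModTens.LTensorCxIso (sgl G) ≪≫ K351.MonAux.trIso e1⟩

/-- `- ⊗ K⟦i⟧ ≅ (- ⊗ K)⟦i⟧`. -/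
theorem nonempty_shift (K : DCoh.D X) (i : ℤ) :
    Nonempty (tensorRight (K⟦i⟧) ≅ tensorRight K ⋙ shiftFunctor (DCoh.D X) i) := by
  obtain ⟨e⟩ := Groth.Agent.Dual.H492.TensShift.nonempty_shift_unit (X := X) i
  exact ⟨K351.MonAux.trIso (e.app K).symm ≪≫ tensorRightTensor K ((𝟙_ (DCoh.D X))⟦i⟧) ≪≫
    Functor.isoWhiskerLeft (tensorRight K) e⟩

end K351.LTModIso
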