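import Groth.Agent.DEquiv.K351.RepPerf
import Groth.Agent.DEquiv.K351.LinK

/-!
# Bondal–Van den Bergh: assembling
-/

set_option autoImplicit false

universe u v'

open CategoryTheory CategoryTheory.Limits CategoryTheory.Pretriangulated AlgebraicGeometry Opposite

attribute [local instance] HasDerivedCategory.standard

namespace K351.RepBdB

open Groth.Agent

variable {k : Type u} [Field k] {X : Scheme.{u}} [X.Over (Spec (CommRingCat.of k))]
  [(SGA6.perfP X).IsTriangulated]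
  (H : ((SGA6.perfP X).FullSubcategory)ᵒᵖ ⥤ ModuleCat.{v'} k)

/-- The finiteness condition. -/
def Fin : Prop := ∀ E : (SGA6.perfP X).FullSubcategory,
  (∀ n : ℤ, Module.Finite k (H.obj (op ((shiftFunctor ((SGA6.perfP X).FullSubcategory) n).obj E)))) ∧
  Set.Finite {n : ℤ | Nontrivial (H.obj (op ((shiftFunctor ((SGA6.perfP X).FullSubcategory) n).obj E)))}

variable {H}

omit [X.Over (Spec (CommRingCat.of k))] in
lemma finite_obj (h : Fin H) (E : ((SGA6.perfP X).FullSubcategory)ᵒᵖ) :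
    Module.Finite k (H.obj E) := by
  have h1 := (h E.unop).1 0
  let e : op ((shiftFunctor ((SGA6.perfP X).FullSubcategory) (0 : ℤ)).obj E.unop) ≅ E :=
    ((shiftFunctorZero ((SGA6.perfP X).FullSubcategory) ℤ).app E.unop).symm.op
  exact Module.Finite.equiv (H.mapIso e).toLinearEquiv

/-- `Hom(E, K⟦i⟧) = Hom(E⟦-i⟧, K)`. -/
noncomputable def shiftEquiv (E K : DCoh.D X) (i : ℤ) : (E⟦-i⟧ ⟶ K) ≃ₗ[k] (E ⟶ K⟦i⟧) :=
  LinK.adjLin (R := k) (F := shiftFunctor (DCoh.D X) (-i)) (G := shiftFunctor (DCoh.D X) i)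
    (shiftEquiv' (DCoh.D X) (-i) i (neg_add_cancel i)).toAdjunction E K

theorem criterion (h : Fin H) (K : DCoh.D X)
    (a : ∀ E : (SGA6.perfP X).FullSubcategory, (E.obj ⟶ K) ≃ₗ[k] H.obj (op E))
    (E : DCoh.D X) (hE : DCoh.IsPerfect E) :
    (∀ i : ℤ, Module.Finite k (E ⟶ (shiftFunctor (DCoh.D X) i).obj K)) ∧
      Set.Finite {i : ℤ | Nontrivial (E ⟶ (shiftFunctor (DCoh.D X) i).obj K)} := by
  let E' : (SGA6.perfP X).FullSubcategory := ⟨E, hE⟩
  have key : ∀ i : ℤ, Nonempty ((E ⟶ (shiftFunctor (DCoh.D X) i).obj K) ≃ₗ[k]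
      H.obj (op ((shiftFunctor ((SGA6.perfP X).FullSubcategory) (-i)).obj E'))) := by
    intro i
    let e : ((shiftFunctor ((SGA6.perfP X).FullSubcategory) (-i)).obj E').obj ≅ E⟦-i⟧ :=
      ((SGA6.perfP X).ι.commShiftIso (-i)).app E'
    exact ⟨(shiftEquiv E K i).symm ≪≫ₗ (LinK.isoLin (R := k) e (Iso.refl K)).symm ≪≫ₗ a _⟩
  refine ⟨fun i => ?_, ?_⟩
  · have := (h E').1 (-i)
    obtain ⟨e⟩ := key i
    exact Module.Finite.equiv e.symm
  · have h2 := ((h E').2).preimage (f := fun i : ℤ => -i) (neg_injective.injOn)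
    refine h2.subset fun i hi => ?_
    obtain ⟨e⟩ := key i
    change Nontrivial _
    have : Nontrivial (E ⟶ (shiftFunctor (DCoh.D X) i).obj K) := hi
    exact e.symm.toEquiv.nontrivial

end K351.RepBdB
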