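import Groth.Agent.DEquiv.K351.FinHom
import Groth.Agent.DEquiv.K351.RepBdB
import Groth.Agent.S6742
import Mathlib.CategoryTheory.Triangulated.HomologicalFunctor

/-!
# The Hom functors attached to an exact functor between categories of perfect complexes
-/

set_option autoImplicit false

universe u

open CategoryTheory CategoryTheory.Limits CategoryTheory.Pretriangulated AlgebraicGeometry Opposite

attribute [local instance] HasDerivedCategory.standard

namespace K351.AdjPerf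

open Groth.Agent

variable {k : Type u} [Field k] {X Y : Scheme.{u}} [X.Over (Spec (CommRingCat.of k))]
  [Y.Over (Spec (CommRingCat.of k))] [IsProper (Y ↘ Spec (CommRingCat.of k))]
  [(SGA6.perfP X).IsTriangulated] [(SGA6.perfP Y).IsTriangulated]
  (F : (SGA6.perfP X).FullSubcategory ⥤ (SGA6.perfP Y).FullSubcategory) [F.Additive] [F.Linear k]
  [F.CommShift ℤ] [F.IsTriangulated] (K : (SGA6.perfP Y).FullSubcategory)

omit [Y.Over (Spec (CommRingCat.of k))] [IsProper (Y ↘ Spec (CommRingCat.of k))]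
  [(SGA6.perfP X).IsTriangulated] [(SGA6.perfP Y).IsTriangulated] [X.Over (Spec (CommRingCat.of k))] in
/-- Perfect objects of a Noetherian scheme are in `D^b_coh`. -/
lemma cohb_of_perf [IsNoetherian Y] (L : DCoh.D Y) (hL : DCoh.IsPerfect L) : SGA6.cohbP Y L := by
  obtain ⟨h1, a, b, h2, h3⟩ := S1006.result Y L hL
  exact ⟨h1, a, b, h2, h3⟩

variable (k) in
/-- `E ↦ Hom(F E, K)`. -/
noncomputable abbrev yonF : ((SGA6.perfP X).FullSubcategory)ᵒᵖ ⥤ ModuleCat.{u + 1} k :=
  F.op ⋙ (linearYoneda k ((SGA6.perfP Y).FullSubcategory)).obj K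

variable (k) in
/-- `E ↦ Hom(K, F E)`. -/
noncomputable abbrev coyonF : (SGA6.perfP X).FullSubcategory ⥤ ModuleCat.{u + 1} k :=
  F ⋙ (linearCoyoneda k ((SGA6.perfP Y).FullSubcategory)).obj (op K)

instance : (yonF k F K).Additive where
  map_add {A B f g} := by
    ext x
    change F.map (f.unop + g.unop) ≫ x = F.map f.unop ≫ x + F.map g.unop ≫ x
    rw [F.map_add, Preadditive.add_comp]

lemma yonF_lin (A B : (SGA6.perfP X).FullSubcategory) (r : k) (f : A ⟶ B) :
    (yonF k F K).map (r • f).op = r • (yonF k F K).map f.op := by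
  ext x
  change F.map (r • f) ≫ x = r • (F.map f ≫ x)
  rw [F.map_smul, Linear.smul_comp]

lemma yonF_cohom : RepGraph.Cohom (yonF k F K) := by
  intro T hT h₁ h₂ h₃ y hy
  let T₁ : (SGA6.perfP X).FullSubcategory := ⟨T.obj₁, h₁⟩
  let T₂ : (SGA6.perfP X).FullSubcategory := ⟨T.obj₂, h₂⟩
  let T₃ : (SGA6.perfP X).FullSubcategory := ⟨T.obj₃, h₃⟩
  let m₁ : T₁ ⟶ T₂ := ObjectProperty.homMk T.mor₁
  let m₂ : T₂ ⟶ T₃ := ObjectProperty.homMk T.mor₂
  change F.obj T₂ ⟶ K at y
  have hy' : F.map m₁ ≫ y = 0 := hy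
  obtain ⟨Z, c, w, hD⟩ := distinguished_cocone_triangle m₁
  obtain ⟨z, hz⟩ : ∃ z : F.obj Z ⟶ K, y = F.map c ≫ z :=
    Triangle.yoneda_exact₂ _ (F.map_distinguished _ hD) y hy'
  have h0 : m₁ ≫ c = 0 := comp_distTriang_mor_zero₁₂ _ hD
  obtain ⟨s, hs⟩ := Triangle.yoneda_exact₂ T hT c.hom (congrArg (fun t => t.hom) h0)
  let s' : T₃ ⟶ Z := ObjectProperty.homMk s
  have hc : c = m₂ ≫ s' := by
    ext
    exact hs
  refine ⟨(F.map s' ≫ z : F.obj T₃ ⟶ K), ?_⟩
  change F.map m₂ ≫ F.map s' ≫ z = y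
  rw [hz, hc, F.map_comp, Category.assoc]

instance : (coyonF k F K).Additive where
  map_add {A B f g} := by
    ext x
    change x ≫ F.map (f + g) = x ≫ F.map f + x ≫ F.map g
    rw [F.map_add, Preadditive.comp_add]

instance : (coyonF k F K).Linear k where
  map_smul f r := by
    ext x
    change x ≫ F.map (r • f) = r • (x ≫ F.map f)
    rw [F.map_smul, Linear.comp_smul]

instance : (coyonF k F K).IsHomological where
  exact T hT := by
    rw [ShortComplex.moduleCat_exact_iff]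
    intro (x : K ⟶ F.obj T.obj₂) (hx : x ≫ F.map T.mor₂ = 0)
    obtain ⟨y, hy⟩ := Triangle.coyoneda_exact₂ _ (F.map_distinguished _ hT) x hx
    exact ⟨y, hy.symm⟩

/-- Homs in the full subcategory. -/
noncomputable def homLin {Z : Scheme.{u}} [Z.Over (Spec (CommRingCat.of k))]
    (A B : (SGA6.perfP Z).FullSubcategory) : (A ⟶ B) ≃ₗ[k] (A.obj ⟶ B.obj) where
  toFun f := f.hom
  invFun f := ObjectProperty.homMk f
  left_inv _ := rfl
  right_inv _ := rfl
  map_add' _ _ := rfl
  map_smul' _ _ := rfl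

/-- `F(E⟦n⟧) ≅ (F E)⟦n⟧` in `D(O_Y)`. -/
noncomputable def shF (E : (SGA6.perfP X).FullSubcategory) (n : ℤ) :
    (F.obj (E⟦n⟧)).obj ≅ (F.obj E).obj⟦n⟧ :=
  (SGA6.perfP Y).ι.mapIso ((F.commShiftIso n).app E) ≪≫ ((SGA6.perfP Y).ι.commShiftIso n).app (F.obj E)

theorem yonF_fin : RepBdB.Fin (yonF k F K) := by
  intro E
  have hN : IsNoetherian Y := FinHom.isNoetherian_of_proper k Y
  obtain ⟨h1, h2⟩ := S6742.result k Y K.obj (cohb_of_perf K.obj K.property) (F.obj E).obj
    (F.obj E).property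
  have key : ∀ n : ℤ, Nonempty (((F.obj E).obj ⟶ (shiftFunctor (DCoh.D Y) (-n)).obj K.obj) ≃ₗ[k]
      (yonF k F K).obj (op ((shiftFunctor ((SGA6.perfP X).FullSubcategory) n).obj E))) := by
    intro n
    refine ⟨?_ ≪≫ₗ LinK.isoLin (R := k) (shF F E n).symm (Iso.refl K.obj) ≪≫ₗ
      (homLin (k := k) (F.obj (E⟦n⟧)) K).symm⟩
    exact (LinK.adjLin (R := k) (F := shiftFunctor (DCoh.D Y) n)
      (G := shiftFunctor (DCoh.D Y) (-n))
      (shiftEquiv' (DCoh.D Y) n (-n) (add_neg_cancel n)).toAdjunction (F.obj E).obj K.obj).symm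
  refine ⟨fun n => ?_, ?_⟩
  · have := h1 (-n)
    exact Module.Finite.equiv (key n).some
  · have h3 := h2.preimage (f := fun i : ℤ => -i) (neg_injective.injOn)
    refine h3.subset fun n hn => ?_
    have : Nontrivial ((yonF k F K).obj (op (E⟦n⟧))) := hn
    change Nontrivial _
    exact (key n).some.toEquiv.nontrivial

theorem coyonF_fin (E : (SGA6.perfP X).FullSubcategory) :
    (∀ n : ℤ, Module.Finite k ((coyonF k F K).obj
      ((shiftFunctor ((SGA6.perfP X).FullSubcategory) n).obj E))) ∧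
    Set.Finite {n : ℤ | Nontrivial ((coyonF k F K).obj
      ((shiftFunctor ((SGA6.perfP X).FullSubcategory) n).obj E))} := by
  have hN : IsNoetherian Y := FinHom.isNoetherian_of_proper k Y
  obtain ⟨h1, h2⟩ := S6742.result k Y (F.obj E).obj (cohb_of_perf _ (F.obj E).property) K.obj
    K.property
  have key : ∀ n : ℤ, Nonempty ((K.obj ⟶ (shiftFunctor (DCoh.D Y) n).obj (F.obj E).obj) ≃ₗ[k]
      (coyonF k F K).obj ((shiftFunctor ((SGA6.perfP X).FullSubcategory) n).obj E)) := by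
    intro n
    exact ⟨LinK.isoLin (R := k) (Iso.refl K.obj) (shF F E n).symm ≪≫ₗ
      (homLin (k := k) K (F.obj (E⟦n⟧))).symm⟩
  refine ⟨fun n => ?_, ?_⟩
  · have := h1 n
    exact Module.Finite.equiv (key n).some
  · refine h2.subset fun n hn => ?_
    have : Nontrivial ((coyonF k F K).obj (E⟦n⟧)) := hn
    change Nontrivial _
    exact (key n).some.toEquiv.nontrivial

end K351.AdjPerf
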