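import Mathlib.AlgebraicGeometry.Morphisms.Immersion
import Mathlib.AlgebraicGeometry.Morphisms.Proper

/-!
# A weak form of Chow's lemma: closure of a graph
-/

set_option autoImplicit false

universe u

open CategoryTheory CategoryTheory.Limits AlgebraicGeometry

namespace K351.ChowGeo

variable {Z P V U : Scheme.{u}}

/-- If `e : U ⟶ Z` is a dominant open immersion over `q : Z ⟶ P` separated, and `e ≫ q` factors
through the open `v : V ⟶ P` by a closed immersion `c`, then `U` is the preimage of `V`. -/
theorem isPullback_of_dominant (q : Z ⟶ P) [IsSeparated q] (v : V ⟶ P) [IsOpenImmersion v]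
    (e : U ⟶ Z) [IsOpenImmersion e] [IsDominant e] (c : U ⟶ V) [IsClosedImmersion c]
    (h : e ≫ q = c ≫ v) : IsPullback e c q v := by
  let s : U ⟶ pullback q v := pullback.lift e c h
  have h1 : s ≫ pullback.fst q v = e := pullback.lift_fst _ _ _
  have h2 : s ≫ pullback.snd q v = c := pullback.lift_snd _ _ _
  have h3 : IsClosedImmersion (s ≫ pullback.snd q v) := by rw [h2]; infer_instance
  have h4 : IsClosedImmersion s := IsClosedImmersion.of_comp s (pullback.snd q v)
  have h5 : IsOpenImmersion (s ≫ pullback.fst q v) := by rw [h1]; infer_instance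
  have h6 : IsOpenImmersion s := IsOpenImmersion.of_comp s (pullback.fst q v)
  have h7 : Surjective s := by
    refine ⟨fun t => ?_⟩
    have hd : DenseRange e := IsDominant.denseRange (f := e)
    have hcl : IsClosed (Set.range s) := s.isClosedEmbedding.isClosed_range
    by_contra hcon
    have ho : IsOpen ((pullback.fst q v) '' (Set.range s)ᶜ) :=
      (pullback.fst q v).isOpenEmbedding.isOpenMap _ hcl.isOpen_compl
    obtain ⟨z, ⟨t', ht', hz⟩, ⟨x, hx⟩⟩ := hd.inter_open_nonempty _ ho ⟨_, t, hcon, rfl⟩
    apply ht'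
    refine ⟨x, ?_⟩
    apply (pullback.fst q v).isOpenEmbedding.injective
    rw [hz, ← hx, ← h1]
    rfl
  have h8 : IsIso s := (isIso_iff_isOpenImmersion_and_surjective s).2 ⟨h6, h7⟩
  exact IsPullback.of_iso (IsPullback.of_hasPullback q v) (asIso s).symm (Iso.refl _) (Iso.refl _)
    (Iso.refl _) (by simp [h1]) (by simp [h2]) (by simp) (by simp)

/-- The closure of the graph of an immersion `φ : U ⟶ P` defined on an open `U` of `X`. -/
theorem exists_closure {S X : Scheme.{u}} (a : X ⟶ S) (p : P ⟶ S) [IsProper a] [IsProper p]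
    (j : U ⟶ X) [IsOpenImmersion j] [QuasiCompact j] (φ : U ⟶ P) [IsImmersion φ]
    (h : j ≫ a = φ ≫ p) :
    ∃ (Z V : Scheme.{u}) (b : Z ⟶ X) (q : Z ⟶ P) (e : U ⟶ Z) (c : U ⟶ V) (v : V ⟶ P),
      b ≫ a = q ≫ p ∧ IsProper b ∧ IsProper q ∧ IsOpenImmersion e ∧ IsOpenImmersion v ∧
        IsClosedImmersion c ∧ IsPullback e (𝟙 U) b j ∧ IsPullback e c q v := by
  let g : U ⟶ pullback a p := pullback.lift j φ h
  have h1 : g ≫ pullback.fst a p = j := pullback.lift_fst _ _ _
  have h2 : g ≫ pullback.snd a p = φ := pullback.lift_snd _ _ _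
  have h3 : IsImmersion (g ≫ pullback.fst a p) := by rw [h1]; infer_instance
  have h4 : IsImmersion g := IsImmersion.of_comp g (pullback.fst a p)
  have h5 : QuasiCompact (g ≫ pullback.fst a p) := by rw [h1]; infer_instance
  have h6 : QuasiCompact g := QuasiCompact.of_comp g (pullback.fst a p)
  let b : g.image ⟶ X := g.imageι ≫ pullback.fst a p
  let q : g.image ⟶ P := g.imageι ≫ pullback.snd a p
  have hb : g.toImage ≫ b = 𝟙 U ≫ j := by
    rw [← Category.assoc, g.toImage_imageι, h1, Category.id_comp]
  have hq : g.toImage ≫ q = φ.liftCoborder ≫ φ.coborderRange.ι := by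
    rw [← Category.assoc, g.toImage_imageι, h2, φ.liftCoborder_ι]
  refine ⟨g.image, φ.coborderRange, b, q, g.toImage, φ.liftCoborder, φ.coborderRange.ι, ?_,
    inferInstance, inferInstance, inferInstance, inferInstance, inferInstance,
    isPullback_of_dominant b j g.toImage (𝟙 U) hb,
    isPullback_of_dominant q φ.coborderRange.ι g.toImage φ.liftCoborder hq⟩
  simp only [b, q, Category.assoc, pullback.condition]

end K351.ChowGeo
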