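import Groth.Agent.PerfC.ClosedImmPc
import Groth.Agent.PerfC.LpullFlat
import Groth.Agent.Krr.H466.ClosedLF
import Groth.Agent.FormalA.PullbackQC
import Groth.Agent.PerfA.CohSerre
import Groth.Prelude.Def_SGA6

/-!
# `Ri_*` for a closed immersion reflects `D^b_coh`
-/

set_option autoImplicit false

universe u

open CategoryTheory CategoryTheory.Limits AlgebraicGeometry DerivedCategory

attribute [local instance] HasDerivedCategory.standard

namespace K351.ClImm

open Groth.Agent Groth.Agent.PerfC.ClosedImmPc Groth.Agent.PerfC.ClosedPush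

variable {Z X : Scheme.{u}} (i : Z ⟶ X) [IsClosedImmersion i]

lemma isCoh_of_push (F : Z.Modules) (h : Coh.IsCoh ((Scheme.Modules.pushforward i).obj F)) :
    Coh.IsCoh F := by
  have := Krr.H466.ClosedLF.isIso_counit i
  have h1 : IsIso ((Scheme.Modules.pullbackPushforwardAdjunction i).counit.app F) := inferInstance
  exact PerfA.CohSerre.isCoh_of_iso
    (asIso ((Scheme.Modules.pullbackPushforwardAdjunction i).counit.app F))
    (FormalA.PullbackQC.isCoh_pullback i _ h)

theorem isCohD_of_rpush [DCoh.HasRpush i] (K : DCoh.D Z)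
    (h : DCoh.IsCohD ((DCoh.Rpush i).obj K)) : DCoh.IsCohD K := fun p =>
  isCoh_of_push i _ (PerfA.CohSerre.isCoh_of_iso
    ((DerivedCategory.homologyFunctor _ p).mapIso ((PerfC.LpullFlat.rpushIso i).app K) ≪≫
      pushHD i K p) (h p))

theorem cohb_of_rpush [DCoh.HasRpush i] (K : DCoh.D Z)
    (h : SGA6.cohbP X ((DCoh.Rpush i).obj K)) : SGA6.cohbP Z K := by
  obtain ⟨h1, a, b, ha, hb⟩ := h
  refine ⟨isCohD_of_rpush i K h1, a, b, ?_, ?_⟩
  · rw [isGE_iff] at ha ⊢
    intro n hn
    exact isZero_of_isZero_pushforward i ((ha n hn).of_iso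
      ((DerivedCategory.homologyFunctor _ n).mapIso ((PerfC.LpullFlat.rpushIso i).app K) ≪≫
      pushHD i K n).symm)
  · rw [isLE_iff] at hb ⊢
    intro n hn
    exact isZero_of_isZero_pushforward i ((hb n hn).of_iso
      ((DerivedCategory.homologyFunctor _ n).mapIso ((PerfC.LpullFlat.rpushIso i).app K) ≪≫
      pushHD i K n).symm)

end K351.ClImm
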