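import Groth.Agent.DEquiv.K351.DualE
import Groth.Agent.DEquiv.K351.RepBdB
import Mathlib.CategoryTheory.Triangulated.HomologicalFunctor

/-!
# Covariant homological functors on `D_perf`: reduction to the contravariant case by duality
-/

set_option autoImplicit false

universe u

open CategoryTheory CategoryTheory.Limits CategoryTheory.Pretriangulated AlgebraicGeometry
  MonoidalCategory Opposite

attribute [local instance] HasDerivedCategory.standard

namespace K351.Corep

open Groth.Agent Groth.Agent.Dcoh K351.HomCalc K351.DualF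

variable {k : Type u} [Field k] {X : Scheme.{u}} [X.Over (Spec (CommRingCat.of k))]
  [(SGA6.perfP X).IsTriangulated]

/-- The dual object in `D_perf`. -/
noncomputable abbrev dl (E : (SGA6.perfP X).FullSubcategory) : (SGA6.perfP X).FullSubcategory :=
  ⟨rdObj E, rdObj_perfect E⟩

theorem dl_shift (E : (SGA6.perfP X).FullSubcategory) (n : ℤ) :
    Nonempty (dl (E⟦n⟧) ≅ (dl E)⟦-n⟧) := by
  let e1 : (E⟦n⟧).obj ≅ E.obj⟦n⟧ := ((SGA6.perfP X).ι.commShiftIso n).app E
  obtain ⟨e2⟩ := rdObj_iso_shift E (E⟦n⟧) n e1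
  let e3 : ((dl E)⟦-n⟧).obj ≅ (rdObj E)⟦-n⟧ := ((SGA6.perfP X).ι.commShiftIso (-n)).app (dl E)
  exact ⟨(SGA6.perfP X).ι.preimageIso (e2 ≪≫ e3.symm)⟩

variable (G : (SGA6.perfP X).FullSubcategory ⥤ ModuleCat.{u + 1} k) [G.Additive] [G.Linear k]
  [G.IsHomological]

variable (hfin : ∀ E : (SGA6.perfP X).FullSubcategory,
      (∀ n : ℤ, Module.Finite k (G.obj ((shiftFunctor ((SGA6.perfP X).FullSubcategory) n).obj E))) ∧
      Set.Finite {n : ℤ | Nontrivial (G.obj ((shiftFunctor ((SGA6.perfP X).FullSubcategory) n).obj E))})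

include hfin in
omit [X.Over (Spec (CommRingCat.of k))] [G.Additive] [G.Linear k] [G.IsHomological] in
theorem fin_dual : RepBdB.Fin (dual X ⋙ G) := by
  intro E
  obtain ⟨h1, h2⟩ := hfin (dl E)
  have key : ∀ n : ℤ, Nonempty ((dual X ⋙ G).obj (op (E⟦n⟧)) ≅
      G.obj ((shiftFunctor ((SGA6.perfP X).FullSubcategory) (-n)).obj (dl E))) := fun n =>
    ⟨G.mapIso (dl_shift E n).some⟩
  refine ⟨fun n => ?_, ?_⟩
  · have := h1 (-n)
    exact Module.Finite.equiv (key n).some.toLinearEquiv.symm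
  · have h3 := h2.preimage (f := fun i : ℤ => -i) (neg_injective.injOn)
    refine h3.subset fun n hn => ?_
    have : Nontrivial ((dual X ⋙ G).obj (op (E⟦n⟧))) := hn
    change Nontrivial _
    exact (key n).some.toLinearEquiv.symm.toEquiv.nontrivial

omit [G.Additive] [G.Linear k] in
theorem cohom_dual : RepGraph.Cohom (dual X ⋙ G) := by
  intro T hT h₁ h₂ h₃ y hy
  have hfull := dual_full (X := X) k
  have hfaith := dual_faithful (X := X) k
  have hadd := dual_additive (X := X) k
  let T₁ : (SGA6.perfP X).FullSubcategory := ⟨T.obj₁, h₁⟩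
  let T₂ : (SGA6.perfP X).FullSubcategory := ⟨T.obj₂, h₂⟩
  let T₃ : (SGA6.perfP X).FullSubcategory := ⟨T.obj₃, h₃⟩
  let m₁ : T₁ ⟶ T₂ := ObjectProperty.homMk T.mor₁
  let m₂ : T₂ ⟶ T₃ := ObjectProperty.homMk T.mor₂
  obtain ⟨Z, z, w, hD⟩ := distinguished_cocone_triangle₁ ((dual X).map m₁.op)
  obtain ⟨x, hx⟩ : ∃ x : G.obj Z, G.map z x = y := by
    have h4 := G.map_distinguished_exact _ hD
    rw [ShortComplex.moduleCat_exact_iff] at h4
    exact h4 y hy
  obtain ⟨W, ⟨e⟩⟩ := Functor.EssSurj.mem_essImage (F := dual X) Z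
  obtain ⟨g, hg⟩ := (dual X).map_surjective (e.hom ≫ z)
  have h5 : g ≫ m₁.op = 0 := by
    apply (dual X).map_injective
    rw [Functor.map_comp, hg, Functor.map_zero, Category.assoc]
    have h6 : z ≫ (dual X).map m₁.op = 0 := comp_distTriang_mor_zero₁₂ _ hD
    rw [h6, comp_zero]
  have h7 : T.mor₁ ≫ g.unop.hom = 0 := congrArg (fun t => t.unop.hom) h5
  obtain ⟨s, hs⟩ := Triangle.yoneda_exact₂ T hT g.unop.hom h7
  let s' : T₃ ⟶ W.unop := ObjectProperty.homMk s
  have h8 : g = s'.op ≫ m₂.op := by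
    apply Quiver.Hom.unop_inj
    ext
    exact hs
  refine ⟨G.map (e.inv ≫ (dual X).map s'.op) x, ?_⟩
  change G.map ((dual X).map m₂.op) _ = y
  rw [← ConcreteCategory.comp_apply, ← Functor.map_comp, Category.assoc, ← Functor.map_comp, ← h8,
    hg, Iso.inv_hom_id_assoc, hx]

omit [G.Additive] [G.IsHomological] [(SGA6.perfP X).IsTriangulated] in
theorem lin_dual (A B : (SGA6.perfP X).FullSubcategory) (r : k) (f : A ⟶ B) :
    (dual X ⋙ G).map (r • f).op = r • (dual X ⋙ G).map f.op := by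
  change G.map ((dual X).map (r • f).op) = r • G.map ((dual X).map f.op)
  rw [dual_smul, G.map_smul]

omit [G.Additive] [G.Linear k] [G.IsHomological] [(SGA6.perfP X).IsTriangulated] in
/-- If `G ∘ dual` is represented by `K'`, then `G` is corepresented by the dual of `K'`. -/
theorem exists_corep (K' : (SGA6.perfP X).FullSubcategory)
    (a : dual X ⋙ G ≅ (ObjectProperty.ι (SGA6.perfP X)).op ⋙ (linearYoneda k (DCoh.D X)).obj K'.obj) :
    Nonempty (G ≅ (linearCoyoneda k ((SGA6.perfP X).FullSubcategory)).obj (op (dl K'))) := by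
  have hfull := dual_full (X := X) k
  have hfaith := dual_faithful (X := X) k
  have heq : (dual X).IsEquivalence := {}
  let Ψ := (dual X).asEquivalence
  let b : G ≅ Ψ.inverse ⋙ (ObjectProperty.ι (SGA6.perfP X)).op ⋙
      (linearYoneda k (DCoh.D X)).obj K'.obj :=
    (Functor.leftUnitor G).symm ≪≫ Functor.isoWhiskerRight Ψ.counitIso.symm G ≪≫
      Functor.associator _ _ _ ≪≫ Functor.isoWhiskerLeft Ψ.inverse a
  let ε : ∀ F : (SGA6.perfP X).FullSubcategory, dl (Ψ.inverse.obj F).unop ≅ F := fun F =>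
    Ψ.counitIso.app F
  have hε : ∀ {F F' : (SGA6.perfP X).FullSubcategory} (g : F ⟶ F'),
      (dual X).map (Ψ.inverse.map g) ≫ (ε F').hom = (ε F).hom ≫ g := fun g =>
    Ψ.counitIso.hom.naturality g
  let c : ∀ F : (SGA6.perfP X).FullSubcategory,
      ((Ψ.inverse.obj F).unop.obj ⟶ K'.obj) ≃ₗ[k] (dl K' ⟶ F) := fun F =>
    mateLin (k := k) (Ψ.inverse.obj F).unop K' ≪≫ₗ
      { toFun := fun f => (SGA6.perfP X).homMk (f ≫ (ε F).hom.hom)
        invFun := fun f => f.hom ≫ (ε F).inv.hom
        left_inv := fun f => by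
          have h : (ε F).hom.hom ≫ (ε F).inv.hom = 𝟙 _ :=
            congrArg (fun t => t.hom) (ε F).hom_inv_id
          change (f ≫ (ε F).hom.hom) ≫ (ε F).inv.hom = f
          rw [Category.assoc, h, Category.comp_id]
        right_inv := fun f => by
          have h : (ε F).inv.hom ≫ (ε F).hom.hom = 𝟙 _ :=
            congrArg (fun t => t.hom) (ε F).inv_hom_id
          ext
          change (f.hom ≫ (ε F).inv.hom) ≫ (ε F).hom.hom = f.hom
          rw [Category.assoc, h, Category.comp_id]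
        map_add' := fun f g => by
          ext
          exact Preadditive.add_comp _ _ _ _ _ _
        map_smul' := fun r f => by
          ext
          exact Linear.smul_comp _ _ _ _ _ _ }
  have hc : ∀ (F : (SGA6.perfP X).FullSubcategory) (f : (Ψ.inverse.obj F).unop.obj ⟶ K'.obj),
      c F f = (dual X).map ((SGA6.perfP X).homMk f : (Ψ.inverse.obj F).unop ⟶ K').op ≫
        (ε F).hom := by
    intro F f
    ext
    change mateLin (k := k) (Ψ.inverse.obj F).unop K' f ≫ (ε F).hom.hom = mate f ≫ (ε F).hom.hom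
    rw [mateLin_apply]
  refine ⟨b ≪≫ NatIso.ofComponents (fun F => (c F).toModuleIso) ?_⟩
  intro F F' g
  have key : ∀ f : (Ψ.inverse.obj F).unop.obj ⟶ K'.obj,
      c F' ((Ψ.inverse.map g).unop.hom ≫ f) = c F f ≫ g := by
    intro f
    have h1 : (dual X).map ((SGA6.perfP X).homMk ((Ψ.inverse.map g).unop.hom ≫ f) :
        (Ψ.inverse.obj F').unop ⟶ K').op =
        (dual X).map ((SGA6.perfP X).homMk f : (Ψ.inverse.obj F).unop ⟶ K').op ≫
          (dual X).map (Ψ.inverse.map g) := by
      rw [← Functor.map_comp]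
      rfl
    rw [hc, hc, h1]
    exact (Category.assoc _ _ _).trans ((congrArg (fun t => (dual X).map
      ((SGA6.perfP X).homMk f : (Ψ.inverse.obj F).unop ⟶ K').op ≫ t) (hε g)).trans
        (Category.assoc _ _ _).symm)
  ext f
  exact key f

end K351.Corep
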