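import Groth.Agent.DEquiv.K351.HomCalc
import Groth.Agent.DEquiv.K351.ClImm
import Groth.Agent.DEquiv.K352.Pn
import Groth.Agent.S6758
import Groth.Agent.S0921
import Groth.Agent.S0998

/-!
# The finiteness criterion on `P^n_k` and on its closed subschemes
-/

set_option autoImplicit false

universe u

open CategoryTheory CategoryTheory.Limits AlgebraicGeometry MonoidalCategory Pretriangulated

attribute [local instance] HasDerivedCategory.standard

namespace K351.CritPn

open Groth.Agent Groth.Agent.Dcoh K351.HomCalc Groth.Agent.PerfB.TwistDer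

section Push

variable {k : Type u} [Field k] {X Y : Scheme.{u}} [X.Over (Spec (CommRingCat.of k))]
  [Y.Over (Spec (CommRingCat.of k))]

/-- The criterion passes to `Rf_* K`. -/
theorem crit_rpush (f : X ⟶ Y) [f.IsOver (Spec (CommRingCat.of k))] [DCoh.HasRpush f]
    [DCoh.HasLpull f] (K : DCoh.D X) (hc : Crit k K) : Crit k ((DCoh.Rpush f).obj K) := by
  obtain ⟨_, _, _⟩ := LoccohB.RpushTri.exists_isTriangulated_Rpush f
  refine hc.transfer fun E hE => ⟨(DCoh.Lpull f).obj E, S0921.result f E hE, fun i => ?_⟩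
  exact ⟨rpushLin f E _ ≪≫ₗ LinK.isoLin (R := k) (Iso.refl _)
    (((DCoh.Rpush f).commShiftIso i).app K)⟩

end Push

section Pn

variable (n : ℕ) (k : Type u) [Field k]

lemma linear_twD (d : ℤ) : (twD n k d).Linear k :=
  LinK.linear_of_inter fun a => by
    have h1 : LoccohB.SectLin303.Inter (DCoh.tensorRightMod (tw n k d))
        (LinK.glob k (CohB1.ProjSpace n k) a) (LinK.glob k (CohB1.ProjSpace n k) a) := by
      refine LoccohB.SectLin303.Inter.of_iso (TMod.flipIso (tw n k d)) ?_
      intro M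
      exact Dual.H345.LinD.tensorBi_smul M _ _
    exact h1.mapDerivedCategory

theorem fin_of_crit (K : DCoh.D (CohB1.ProjSpace n k)) (hc : Crit k K) (d : ℕ) :
    K352.Pn.Fin n k ((twD n k d).obj K) := by
  have hperf : DCoh.IsPerfect (DCoh.inD (CohB1.ProjSpace n k) (tw n k (-(d : ℤ)))) :=
    PerfA.PerfLocal.isPerfect_inD_of_isFinLocFree
      (Ega2.QCohLocal.isFinLocFree_of_rank (Ega2.QCohLocal.isFinLocFreeOfRank_one_iff.mpr
        (isInvertible_tw n k _)))
  obtain ⟨h1, h2⟩ := hc _ hperf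
  have := linear_twD n k (d : ℤ)
  have key : ∀ i : ℤ, Nonempty
      ((DCoh.inD (CohB1.ProjSpace n k) (tw n k (-(d : ℤ))) ⟶ K⟦i⟧) ≃ₗ[k]
        (DCoh.inD (CohB1.ProjSpace n k) (Coh.structureModule _) ⟶ ((twD n k d).obj K)⟦i⟧)) := by
    intro i
    let e : (twD n k d).obj (DCoh.inD (CohB1.ProjSpace n k) (tw n k (-(d : ℤ)))) ≅
        DCoh.inD (CohB1.ProjSpace n k) (Coh.structureModule _) :=
      twDSingle n k (-(d : ℤ)) d 0 (by ring) ≪≫
        ((DerivedCategory.singleFunctor _ 0).mapIso (twZero n k)).symm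
    exact ⟨LinK.ffLin (R := k) (twD n k d) (twDEquiv n k d).fullyFaithfulFunctor _ _ ≪≫ₗ
      LinK.isoLin (R := k) e (((twD n k d).commShiftIso i).app K)⟩
  refine ⟨fun i => ?_, h2.subset fun i hi => ?_⟩
  · have := h1 i
    exact Module.Finite.equiv (key i).some
  · have : Nontrivial (DCoh.inD (CohB1.ProjSpace n k) (Coh.structureModule _) ⟶
      ((twD n k d).obj K)⟦i⟧) := hi
    exact (key i).some.toEquiv.nontrivial

theorem cohb_of_crit (K : DCoh.D (CohB1.ProjSpace n k)) (hK : DCoh.IsQCohD K) (hc : Crit k K) :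
    SGA6.cohbP _ K :=
  K352.Pn.cohb_of_fin n k hK fun d _ => fin_of_crit n k K hc d

end Pn

section Closed

variable {k : Type u} [Field k] {X : Scheme.{u}} [X.Over (Spec (CommRingCat.of k))]

theorem cohb_of_closed (n : ℕ) (i : X ⟶ CohB1.ProjSpaceOver n (Spec (CommRingCat.of k)))
    [IsClosedImmersion i] [i.IsOver (Spec (CommRingCat.of k))] (K : DCoh.D X)
    (hK : DCoh.IsQCohD K) (hc : Crit k K) : SGA6.cohbP X K := by
  let α := (S6758.rho k n).inv
  have hα : α.IsOver (Spec (CommRingCat.of k)) := ⟨by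
    rw [← cancel_epi (S6758.rho k n).hom, ← Category.assoc, Iso.hom_inv_id, Category.id_comp]
    exact (comp_over (S6758.rho k n).hom (Spec (CommRingCat.of k))).symm⟩
  let f := i ≫ α
  have hf : f.IsOver (Spec (CommRingCat.of k)) := inferInstance
  have hf' : IsClosedImmersion f := inferInstance
  have r1 : DCoh.HasRpush f := DerSch.hasRpush f
  have r2 : DCoh.HasLpull f := DerPull.hasLpull f
  exact ClImm.cohb_of_rpush f K (cohb_of_crit n k _ (S0998.result f K hK) (crit_rpush f K hc))

end Closed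

end K351.CritPn
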