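import Groth.Agent.DEquiv.K351.DualF
import Groth.Agent.DEquiv.K351.MonAux
import Groth.Agent.PerfC.DTens
import Mathlib.CategoryTheory.Linear.LinearFunctor

/-!
# The duality functor on perfect complexes is an equivalence, compatible with shifts on objects
-/

set_option autoImplicit false

universe u

open CategoryTheory CategoryTheory.Limits AlgebraicGeometry MonoidalCategory Opposite

attribute [local instance] HasDerivedCategory.standard

open scoped Groth.Agent.Dcoh.MonCat Groth.Agent.Dcoh.ModD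

namespace K351.DualF

open Groth.Agent Groth.Agent.Dcoh K351.HomCalc

variable {X : Scheme.{u}}

attribute [local instance] rdPair hrd

section Shift

/-- `A ⊗ K⟦i⟧ ≅ (A ⊗ K)⟦i⟧`. -/
theorem tensor_shift (A K : DCoh.D X) (i : ℤ) : Nonempty (A ⊗ K⟦i⟧ ≅ (A ⊗ K)⟦i⟧) := by
  obtain ⟨_, _⟩ := PerfC.DTens.isTriang_LTX_obj A
  obtain ⟨e⟩ := PerfDual.nonempty_objIso A
  exact ⟨e.symm.app _ ≪≫ (((PerfC.DTens.LTX X).obj A).commShiftIso i).app K ≪≫
    (shiftFunctor (DCoh.D X) i).mapIso (e.app K)⟩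

/-- `A⟦i⟧ ⊗ K ≅ (A ⊗ K)⟦i⟧`. -/
theorem tensor_shift' (A K : DCoh.D X) (i : ℤ) : Nonempty (A⟦i⟧ ⊗ K ≅ (A ⊗ K)⟦i⟧) := by
  obtain ⟨s⟩ := MonSymm293.weakSymm K
  obtain ⟨e⟩ := tensor_shift K A i
  exact ⟨(s.app (A⟦i⟧)).symm ≪≫ e ≪≫ (shiftFunctor (DCoh.D X) i).mapIso (s.app A)⟩

/-- `𝟙⟦i⟧ ⊗ 𝟙⟦-i⟧ ≅ 𝟙`. -/
theorem unit_shift (i j : ℤ) (h : i + j = 0) :
    Nonempty ((𝟙_ (DCoh.D X))⟦i⟧ ⊗ (𝟙_ (DCoh.D X))⟦j⟧ ≅ 𝟙_ (DCoh.D X)) := by
  obtain ⟨e⟩ := tensor_shift ((𝟙_ (DCoh.D X))⟦i⟧) (𝟙_ (DCoh.D X)) j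
  exact ⟨e ≪≫ (shiftFunctor (DCoh.D X) j).mapIso (ρ_ _) ≪≫
    (shiftFunctorCompIsoId (DCoh.D X) i j h).app _⟩

lemma perf_shift (E : (SGA6.perfP X).FullSubcategory) (n : ℤ) : DCoh.IsPerfect (E.obj⟦n⟧) :=
  PerfA.PerfLocal.isPerfect_shift E.property n

/-- The dual of a shift. -/
theorem rdObj_iso_shift (E F : (SGA6.perfP X).FullSubcategory) (n : ℤ) (e : F.obj ≅ E.obj⟦n⟧) :
    Nonempty (rdObj F ≅ (rdObj E)⟦-n⟧) := by
  let S := (𝟙_ (DCoh.D X))⟦n⟧
  let T := (𝟙_ (DCoh.D X))⟦-n⟧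
  have hS : DCoh.IsPerfect S := PerfA.PerfLocal.isPerfect_shift Dual.H379.DQMon.isPerfect_unit n
  let S' : (SGA6.perfP X).FullSubcategory := ⟨S, hS⟩
  obtain ⟨a1⟩ := unit_shift (X := X) n (-n) (by omega)
  obtain ⟨a2⟩ := unit_shift (X := X) (-n) n (by omega)
  let t : rdObj S' ≅ T := @MonAux.dualInv _ _ _ S T (rdObj S') a1 a2 (rdPair S')
  obtain ⟨b⟩ := tensor_shift E.obj (𝟙_ (DCoh.D X)) n
  let c : F.obj ≅ E.obj ⊗ S := e ≪≫ (shiftFunctor (DCoh.D X) n).mapIso (ρ_ E.obj).symm ≪≫ b.symm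
  let p : ExactPairing (E.obj ⊗ S) (rdObj S' ⊗ rdObj E) :=
    @ExactPairing.tensor _ _ _ E.obj S (rdObj E) (rdObj S') (rdPair E) (rdPair S')
  let p' : ExactPairing F.obj (rdObj S' ⊗ rdObj E) :=
    @exactPairingCongrLeft _ _ _ _ _ _ p c
  obtain ⟨d⟩ := tensor_shift' (𝟙_ (DCoh.D X)) (rdObj E) (-n)
  exact ⟨rightDualIso (rdPair F) p' ≪≫ (MonAux.trIso (Iso.refl _)).app _ ≪≫
    whiskerRightIso t (rdObj E) ≪≫ d ≪≫ (shiftFunctor (DCoh.D X) (-n)).mapIso (λ_ _)⟩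

end Shift

/-- The double dual. -/
noncomputable def rdObj_rdObj (E : (SGA6.perfP X).FullSubcategory) :
    E.obj ≅ rdObj ⟨rdObj E, rdObj_perfect E⟩ :=
  let s := (MonSymm293.weakSymm (rdObj E)).some
  @MonAux.doubleDual _ _ _ E.obj (rdObj E) (rdObj ⟨rdObj E, rdObj_perfect E⟩) (rdPair E)
    (rdPair ⟨rdObj E, rdObj_perfect E⟩) s

instance : (dual X).EssSurj where
  mem_essImage E := ⟨op ⟨rdObj E, rdObj_perfect E⟩,
    ⟨(SGA6.perfP X).ι.preimageIso (rdObj_rdObj E).symm⟩⟩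

section Lin

variable (k : Type u) [Field k] [X.Over (Spec (CommRingCat.of k))]

include k in
lemma dual_faithful : (dual X).Faithful where
  map_injective {A B} f g h := by
    apply Quiver.Hom.unop_inj
    ext
    apply (mateLin (k := k) B.unop A.unop).injective
    rw [mateLin_apply, mateLin_apply]
    exact congrArg (fun z => z.hom) h

include k in
lemma dual_full : (dual X).Full where
  map_surjective {A B} g := by
    refine ⟨((SGA6.perfP X).homMk ((mateLin (k := k) B.unop A.unop).symm g.hom)).op, ?_⟩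
    ext
    change mate ((mateLin (k := k) B.unop A.unop).symm g.hom) = g.hom
    rw [← mateLin_apply (k := k), LinearEquiv.apply_symm_apply]

include k in
lemma dual_additive : (dual X).Additive where
  map_add {A B f g} := by
    ext
    change mate (f.unop.hom + g.unop.hom) = mate f.unop.hom + mate g.unop.hom
    rw [← mateLin_apply (k := k), ← mateLin_apply (k := k), ← mateLin_apply (k := k), map_add]

variable {k} in
lemma dual_smul {A B : (SGA6.perfP X).FullSubcategory} (r : k) (f : A ⟶ B) :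
    (dual X).map (r • f).op = r • (dual X).map f.op := by
  ext
  change mate (r • f.hom) = r • mate f.hom
  rw [← mateLin_apply (k := k), ← mateLin_apply (k := k), map_smul]

end Lin

end K351.DualF
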