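import Groth.Agent.DEquiv.K351.HomCalc
import Groth.Prelude.Def_SGA6

/-!
# The duality functor on perfect complexes
-/

set_option autoImplicit false

universe u

open CategoryTheory CategoryTheory.Limits AlgebraicGeometry MonoidalCategory Opposite

attribute [local instance] HasDerivedCategory.standard

open scoped Groth.Agent.Dcoh.MonCat Groth.Agent.Dcoh.ModD

namespace K351.DualF

open Groth.Agent Groth.Agent.Dcoh K351.HomCalc

variable {X : Scheme.{u}}

/-- A right dual of a perfect object. -/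
noncomputable def rdObj (E : (SGA6.perfP X).FullSubcategory) : DCoh.D X :=
  Classical.choose (PerfDual.exists_exactPairing E.obj E.property)

lemma rdObj_perfect (E : (SGA6.perfP X).FullSubcategory) : DCoh.IsPerfect (rdObj E) :=
  (Classical.choose_spec (PerfDual.exists_exactPairing E.obj E.property)).1

/-- The pairing. -/
@[instance_reducible]
noncomputable def rdPair (E : (SGA6.perfP X).FullSubcategory) : ExactPairing E.obj (rdObj E) :=
  (Classical.choose_spec (PerfDual.exists_exactPairing E.obj E.property)).2.some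

attribute [local instance] rdPair

/-- The right dual. -/
@[instance_reducible]
noncomputable def hrd (E : (SGA6.perfP X).FullSubcategory) : HasRightDual E.obj where
  rightDual := rdObj E
  exact := rdPair E

attribute [local instance] hrd

/-- The mate of a morphism. -/
noncomputable def mate {E F : (SGA6.perfP X).FullSubcategory} (f : E.obj ⟶ F.obj) :
    rdObj F ⟶ rdObj E := @rightAdjointMate _ _ _ E.obj F.obj (hrd E) (hrd F) f

/-- The duality functor. -/
noncomputable def dual (X : Scheme.{u}) :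
    ((SGA6.perfP X).FullSubcategory)ᵒᵖ ⥤ (SGA6.perfP X).FullSubcategory where
  obj E := ⟨rdObj E.unop, rdObj_perfect E.unop⟩
  map f := (SGA6.perfP X).homMk (mate f.unop.hom)
  map_id E := by
    ext
    exact rightAdjointMate_id
  map_comp f g := by
    ext
    exact comp_rightAdjointMate

section Lin

variable {k : Type u} [Field k] [X.Over (Spec (CommRingCat.of k))]

/-- The mate as a linear equivalence. -/
noncomputable def mateLin (E F : (SGA6.perfP X).FullSubcategory) :
    (E.obj ⟶ F.obj) ≃ₗ[k] (rdObj F ⟶ rdObj E) :=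
  LinK.isoLin (R := k) (Iso.refl E.obj) (ρ_ F.obj).symm ≪≫ₗ
    (leftLin (k := k) E.obj (𝟙_ (DCoh.D X)) F.obj (rdObj F)).symm ≪≫ₗ
      FinHom.pairLin (k := k) (rdObj F) E.obj (rdObj E) (𝟙_ (DCoh.D X)) ≪≫ₗ
        LinK.isoLin (R := k) (Iso.refl _) (λ_ (rdObj E))

lemma mateLin_apply {E F : (SGA6.perfP X).FullSubcategory} (f : E.obj ⟶ F.obj) :
    mateLin (k := k) E F f = mate f := by
  have h1 : (leftLin (k := k) E.obj (𝟙_ (DCoh.D X)) F.obj (rdObj F)).symm
      (f ≫ (ρ_ F.obj).inv) = (rdObj F) ◁ f ≫ ε_ F.obj (rdObj F) := by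
    have h2 : (leftLin (k := k) E.obj (𝟙_ (DCoh.D X)) F.obj (rdObj F)).symm
        (f ≫ (ρ_ F.obj).inv) = (tensorLeftHomEquiv E.obj F.obj (rdObj F) (𝟙_ (DCoh.D X))).symm
          (f ≫ (ρ_ F.obj).inv) := by
      change ((tensorLeftAdjunction F.obj (rdObj F)).homEquiv E.obj (𝟙_ (DCoh.D X))).symm _ = _
      rw [tensorLeftAdjunction, Adjunction.mkOfHomEquiv_homEquiv]
    rw [h2]
    change (rdObj F) ◁ (f ≫ (ρ_ F.obj).inv) ≫ (α_ _ _ _).inv ≫ ε_ _ _ ▷ _ ≫ (λ_ _).hom = _
    monoidal
  have h3 : ∀ g : rdObj F ⊗ E.obj ⟶ 𝟙_ (DCoh.D X),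
      FinHom.pairLin (k := k) (rdObj F) E.obj (rdObj E) (𝟙_ (DCoh.D X)) g =
        tensorRightHomEquiv (rdObj F) E.obj (rdObj E) (𝟙_ (DCoh.D X)) g := by
    intro g
    change (tensorRightAdjunction E.obj (rdObj E)).homEquiv (rdObj F) (𝟙_ (DCoh.D X)) g = _
    rw [tensorRightAdjunction, Adjunction.mkOfHomEquiv_homEquiv]
  change 𝟙 _ ≫ FinHom.pairLin (k := k) (rdObj F) E.obj (rdObj E) (𝟙_ (DCoh.D X))
    ((leftLin (k := k) E.obj (𝟙_ (DCoh.D X)) F.obj (rdObj F)).symm
      (𝟙 _ ≫ f ≫ (ρ_ F.obj).inv)) ≫ (λ_ (rdObj E)).hom = mate f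
  rw [Category.id_comp, Category.id_comp, h1, h3]
  have h4 := tensorRightHomEquiv_whiskerLeft_comp_evaluation (X := E.obj) (Y := F.obj) f
  have h5 : tensorRightHomEquiv (rdObj F) E.obj (rdObj E) (𝟙_ (DCoh.D X))
      (rdObj F ◁ f ≫ ε_ F.obj (rdObj F)) = mate f ≫ (λ_ (rdObj E)).inv := h4
  rw [h5, Category.assoc, Iso.inv_hom_id, Category.comp_id]

end Lin

end K351.DualF
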