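import Groth.Agent.DEquiv.K235.PtModel
import Groth.Agent.DEquiv.K235.PtHom
import Groth.Agent.DEquiv.K351.MonAux

/-!
# Vanishing of `H^i(K^∨)` near a point

For `K` perfect, if every morphism `K ⟶ O_x[i]` vanishes then `H^i(K^∨)` vanishes near `x`.
-/

set_option autoImplicit false
universe u
open CategoryTheory CategoryTheory.Limits AlgebraicGeometry TopologicalSpace Opposite MonoidalCategory

namespace K351.DualPt

open Groth.Agent.Dcoh DerivedCategory K235.PtHom

attribute [local instance] HasDerivedCategory.standard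
open scoped Groth.Agent.Dcoh.MonCat Groth.Agent.Dcoh.ModD

variable {X : Scheme.{u}}

/-- `F ⊗ - ≅ - ⊗ F` on `D(O_X)`. -/
theorem nonempty_flip (F : DCoh.D X) : Nonempty (tensorLeft F ≅ tensorRight F) := by
  obtain ⟨s⟩ := Groth.Agent.LoccohB.LTXInst.nonempty_symm X
  obtain ⟨e1⟩ := PerfDual.nonempty_objIso F
  obtain ⟨e2⟩ := PerfDual.nonempty_flipIso F
  exact ⟨e1.symm ≪≫ s.app F ≪≫ e2⟩

/-- The dual of a perfect object has the original object as a dual. -/
theorem exists_double (K K' : DCoh.D X) (hK' : DCoh.IsPerfect K') (hp : ExactPairing K K') :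
    ∃ K'' : DCoh.D X, Nonempty (K ≅ K'') ∧ Nonempty (ExactPairing K' K'') := by
  obtain ⟨K'', -, ⟨hp'⟩⟩ := PerfDual.exists_exactPairing K' hK'
  obtain ⟨s⟩ := nonempty_flip K'
  exact ⟨K'', ⟨K351.MonAux.doubleDual K K' K'' s⟩, ⟨hp'⟩⟩

variable (x : X) [DCoh.HasLpull (X.fromSpecResidueField x)]

/-- If every morphism `K ⟶ O_x⟦i⟧` is zero then `H^i(Le^* K') = 0` for the dual `K'`. -/
theorem isZero_dual_of_hom_to_sky (K K' : DCoh.D X) (hK : DCoh.IsPerfect K)
    (hK' : DCoh.IsPerfect K') (hp : ExactPairing K K') (i : ℤ)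
    (h : ∀ φ : K ⟶ (shiftFunctor (DCoh.D X) i).obj (DCoh.inD X (sky x)), φ = 0) :
    IsZero (DCoh.HD ((DCoh.Lpull (X.fromSpecResidueField x)).obj K') i) := by
  obtain ⟨K'', ⟨e⟩, ⟨hp'⟩⟩ := exists_double K K' hK' hp
  have h1 : IsZero (DCoh.HD ((DCoh.Lpull (X.fromSpecResidueField x)).obj K) (-i)) := by
    apply isZero_of_hom_to_sky
    intro φ
    let a : (shiftFunctor (DCoh.D X) i).obj (DCoh.inD X (sky x)) ≅
        (singleFunctor X.Modules (-i)).obj (sky x) :=
      ((singleFunctors X.Modules).shiftIso i (-i) 0 (by omega)).app (sky x)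
    apply (cancel_mono a.inv).1
    exact (h _).trans (h _).symm
  have h2 : IsZero (DCoh.HD ((DCoh.Lpull (X.fromSpecResidueField x)).obj K'') (-i)) :=
    h1.of_iso ((homologyFunctor _ (-i)).mapIso ((DCoh.Lpull (X.fromSpecResidueField x)).mapIso e.symm))
  have h3 := isZero_of_isZero_dual x K' K'' (LocalD.isPerfect_of_iso e hK) hp' (-i) h2
  rwa [neg_neg] at h3

end K351.DualPt
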