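import Groth.Agent.DEquiv.K351.FinHom
import Groth.Agent.Dual.H379.DQMon

/-!
# The finiteness criterion `Crit` and its behaviour under `Rf_*` and `Rq_* Lb^*`
-/

set_option autoImplicit false

universe u

open CategoryTheory CategoryTheory.Limits AlgebraicGeometry MonoidalCategory Pretriangulated

attribute [local instance] HasDerivedCategory.standard

open scoped Groth.Agent.Dcoh.MonCat Groth.Agent.Dcoh.ModD

namespace K351.HomCalc

open Groth.Agent Groth.Agent.Dcoh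

variable {k : Type u} [Field k] {X Y Z P : Scheme.{u}} [X.Over (Spec (CommRingCat.of k))]
  [Y.Over (Spec (CommRingCat.of k))] [Z.Over (Spec (CommRingCat.of k))]
  [P.Over (Spec (CommRingCat.of k))]

variable (k) in
/-- The finiteness criterion: `Hom(E, K⟦i⟧)` is finite dimensional for all `i` and nonzero only for
finitely many `i`, for all perfect `E`. -/
def Crit (K : DCoh.D X) : Prop :=
  ∀ E : DCoh.D X, DCoh.IsPerfect E →
    (∀ i : ℤ, Module.Finite k (E ⟶ (shiftFunctor (DCoh.D X) i).obj K)) ∧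
      Set.Finite {i : ℤ | Nontrivial (E ⟶ (shiftFunctor (DCoh.D X) i).obj K)}

/-- Transfer of the criterion. -/
theorem Crit.transfer {K : DCoh.D X} {M : DCoh.D P} (hK : Crit k K)
    (h : ∀ E : DCoh.D P, DCoh.IsPerfect E → ∃ G : DCoh.D X, DCoh.IsPerfect G ∧
      ∀ i : ℤ, Nonempty ((G ⟶ (shiftFunctor (DCoh.D X) i).obj K) ≃ₗ[k]
        (E ⟶ (shiftFunctor (DCoh.D P) i).obj M))) : Crit k M := by
  intro E hE
  obtain ⟨G, hG, e⟩ := h E hE
  obtain ⟨h1, h2⟩ := hK G hG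
  refine ⟨fun i => ?_, ?_⟩
  · have := h1 i
    exact Module.Finite.equiv (e i).some
  · refine h2.subset fun i hi => ?_
    have : Nontrivial (E ⟶ (shiftFunctor (DCoh.D P) i).obj M) := hi
    exact (e i).some.toEquiv.nontrivial

lemma linear_of_natIso {A B : Type*} [Category A] [Category B] [Preadditive A] [Preadditive B]
    [Linear k A] [Linear k B] {F G : A ⥤ B} (e : F ≅ G) [F.Linear k] : G.Linear k where
  map_smul f r := by
    rw [← cancel_epi (e.hom.app _), Linear.comp_smul, ← e.hom.naturality, ← e.hom.naturality,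
      F.map_smul, Linear.smul_comp]

/-- `Z ⊗ -` is linear. -/
lemma linear_tensorLeft (F : DCoh.D X) : (tensorLeft F : DCoh.D X ⥤ DCoh.D X).Linear k := by
  obtain ⟨s⟩ := MonSymm293.weakSymm F
  have : (tensorRight F : DCoh.D X ⥤ DCoh.D X).Linear k := LinK.linear_tensorRight (A := k) F
  exact linear_of_natIso s.symm

/-- `Hom(F' ⊗ A, B) = Hom(A, F ⊗ B)` linearly. -/
noncomputable def leftLin (A B F F' : DCoh.D X) [ExactPairing F F'] :
    (F' ⊗ A ⟶ B) ≃ₗ[k] (A ⟶ F ⊗ B) :=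
  haveI : (tensorLeft F : DCoh.D X ⥤ DCoh.D X).Linear k := linear_tensorLeft F
  haveI : (tensorLeft F' : DCoh.D X ⥤ DCoh.D X).IsLeftAdjoint :=
    (tensorLeftAdjunction F F').isLeftAdjoint
  haveI : (tensorLeft F' : DCoh.D X ⥤ DCoh.D X).Additive := CompactDual.additive_of_isLeftAdjoint _
  haveI : (tensorLeft F : DCoh.D X ⥤ DCoh.D X).Additive :=
    (tensorLeftAdjunction F F').right_adjoint_additive
  LinK.adjLin (R := k) (tensorLeftAdjunction F F') A B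

/-- `Hom(E, Rf_* M) = Hom(Lf^* E, M)` linearly. -/
noncomputable def rpushLin (f : X ⟶ Y) [f.IsOver (Spec (CommRingCat.of k))] [DCoh.HasRpush f]
    [DCoh.HasLpull f] (E : DCoh.D Y) (M : DCoh.D X) :
    ((DCoh.Lpull f).obj E ⟶ M) ≃ₗ[k] (E ⟶ (DCoh.Rpush f).obj M) :=
  letI := DerPull.lpullCommShift f
  haveI : (DCoh.Lpull f).IsTriangulated := DerPull.lpull_isTriangulated f
  haveI : (DCoh.Rpush f).Additive := (DerPull.lpullAdj f).right_adjoint_additive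
  haveI : (DCoh.Rpush f).Linear k := LinK.linear_Rpush f
  LinK.adjLin (R := k) (DerPull.lpullAdj f) E M

/-- `Hom(𝟙, K ⊗ F)` for `F` perfect is `Hom(G, K)` for a perfect `G`. -/
theorem exists_unit_tensor (F : DCoh.D X) (hF : DCoh.IsPerfect F) :
    ∃ G : DCoh.D X, DCoh.IsPerfect G ∧
      ∀ K : DCoh.D X, Nonempty ((G ⟶ K) ≃ₗ[k] (𝟙_ (DCoh.D X) ⟶ K ⊗ F)) := by
  obtain ⟨F', hF', ⟨hp⟩⟩ := PerfDual.exists_exactPairing F hF
  refine ⟨F', hF', fun K => ?_⟩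
  obtain ⟨s⟩ := MonSymm293.weakSymm F
  exact ⟨LinK.isoLin (R := k) (ρ_ F').symm (Iso.refl K) ≪≫ₗ leftLin (𝟙_ _) K F F' ≪≫ₗ
    LinK.isoLin (R := k) (Iso.refl _) (s.app K)⟩

/-- `Hom(E, K)` for `E` perfect is `Hom(𝟙, K ⊗ E')`. -/
theorem exists_tensor_unit (E : DCoh.D X) (hE : DCoh.IsPerfect E) :
    ∃ E' : DCoh.D X, DCoh.IsPerfect E' ∧
      ∀ K : DCoh.D X, Nonempty ((E ⟶ K) ≃ₗ[k] (𝟙_ (DCoh.D X) ⟶ K ⊗ E')) := by
  obtain ⟨E', hE', ⟨hp⟩⟩ := PerfDual.exists_exactPairing E hE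
  exact ⟨E', hE', fun K => ⟨LinK.isoLin (R := k) (λ_ E).symm (Iso.refl K) ≪≫ₗ
    FinHom.pairLin (𝟙_ _) E E' K⟩⟩

lemma lpull_unit (f : X ⟶ Y) [DCoh.HasLpull f] :
    Nonempty ((DCoh.Lpull f).obj (𝟙_ (DCoh.D Y)) ≅ 𝟙_ (DCoh.D X)) := by
  let := Dual.H379.DQMon.lpullMon f
  exact ⟨(Functor.Monoidal.εIso (DCoh.Lpull f)).symm⟩

/-- The basic correspondence: for `b : Z ⟶ X`, `q : Z ⟶ P`, and `E` perfect on `P` with
`Rb_*` of the dual of `Lq^* E` perfect. -/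
theorem exists_chow (b : Z ⟶ X) (q : Z ⟶ P) [b.IsOver (Spec (CommRingCat.of k))]
    [q.IsOver (Spec (CommRingCat.of k))] [QuasiCompact b] [QuasiSeparated b]
    [DCoh.HasRpush b] [DCoh.HasLpull b] [DCoh.HasRpush q] [DCoh.HasLpull q]
    (hb : ∀ F : DCoh.D Z, DCoh.IsPerfect F → DCoh.IsPerfect ((DCoh.Rpush b).obj F))
    (hq : ∀ E : DCoh.D P, DCoh.IsPerfect E → DCoh.IsPerfect ((DCoh.Lpull q).obj E))
    (E : DCoh.D P) (hE : DCoh.IsPerfect E) :
    ∃ G : DCoh.D X, DCoh.IsPerfect G ∧ ∀ K : DCoh.D X, DCoh.IsQCohD K →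
      Nonempty ((G ⟶ K) ≃ₗ[k] (E ⟶ (DCoh.Rpush q).obj ((DCoh.Lpull b).obj K))) := by
  obtain ⟨F, hF, e1⟩ := exists_tensor_unit (k := k) ((DCoh.Lpull q).obj E) (hq E hE)
  obtain ⟨G, hG, e2⟩ := exists_unit_tensor (k := k) ((DCoh.Rpush b).obj F) (hb F hF)
  refine ⟨G, hG, fun K hK => ?_⟩
  obtain ⟨u⟩ := lpull_unit b
  have hF' : DCoh.IsQCohD F := LoccohB.PerfQCoh.isQCohD_of_isPerfect hF
  let := Dual.H379.DQMon.lpullMon b
  have hi := Dual.H379.DQMon.isIso_proj b K hK F hF'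
  let π : K ⊗ (DCoh.Rpush b).obj F ≅ (DCoh.Rpush b).obj ((DCoh.Lpull b).obj K ⊗ F) :=
    @asIso _ _ _ _ _ hi
  exact ⟨(e2 K).some ≪≫ₗ LinK.isoLin (R := k) (Iso.refl _) π ≪≫ₗ (rpushLin b _ _).symm ≪≫ₗ
    LinK.isoLin (R := k) u (Iso.refl _) ≪≫ₗ (e1 _).some.symm ≪≫ₗ rpushLin q _ _⟩

end K351.HomCalc
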