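import Groth.Agent.DCoh.K312.RGam2
import Groth.Agent.PerfA.Hyp0
import Groth.Agent.Dcoh.DualX

/-!
# `Hom(O_X, K[n]) ≃ H^n(RΓ(X, K))`, naturally in `K`
-/

set_option autoImplicit false

universe u

open CategoryTheory CategoryTheory.Limits AlgebraicGeometry

attribute [local instance] HasDerivedCategory.standard

namespace K351.HypGam

open Groth.Agent.Dcoh.DerHo Groth.Agent.Dcoh.DerComp Groth.Agent.Dcoh.Restrict K312.RGam
  Groth.Agent.PerfA.Hyp0 Groth.Agent.Dcoh.DerSch

section Ab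

variable (C : CochainComplex AddCommGrpCat.{u} ℤ)

lemma exists_cycle (n : ℤ) (a : C.X n) (ha : C.d n (n + 1) a = 0) :
    ∃ z : C.cycles n, C.iCycles n z = a := by
  have h : (ShortComplex.mk (C.iCycles n) (C.d n (n + 1)) (C.iCycles_d n (n + 1))).Exact :=
    ShortComplex.exact_of_f_is_kernel _ (C.cyclesIsKernel n (n + 1) (by simp))
  rw [ShortComplex.ab_exact_iff] at h
  exact h a ha

lemma exists_bound (m n : ℤ) (hmn : m + 1 = n) (z : C.cycles n) (hz : C.homologyπ n z = 0) :
    ∃ b : C.X m, C.d m n b = C.iCycles n z := by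
  have h : (ShortComplex.mk (C.toCycles m n) (C.homologyπ n)
      (C.toCycles_comp_homologyπ m n)).Exact :=
    ShortComplex.exact_of_g_is_cokernel _ (C.homologyIsCokernel m n (by
      simp only [CochainComplex.prev]
      omega))
  rw [ShortComplex.ab_exact_iff] at h
  obtain ⟨b, hb⟩ := h z hz
  refine ⟨b, ?_⟩
  rw [← C.toCycles_i m n]
  change C.iCycles n (C.toCycles m n b) = _
  exact congrArg _ hb

lemma surjective_homologyπ (n : ℤ) : Function.Surjective (C.homologyπ n) :=
  (AddCommGrpCat.epi_iff_surjective _).1 inferInstance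

lemma injective_iCycles (n : ℤ) : Function.Injective (C.iCycles n) :=
  (AddCommGrpCat.mono_iff_injective _).1 inferInstance

end Ab

variable {X : Scheme.{u}}

/-- `Γ(X, -)` on complexes. -/
noncomputable abbrev GC (X : Scheme.{u}) :
    CochainComplex X.Modules ℤ ⥤ CochainComplex AddCommGrpCat.{u} ℤ :=
  (DCoh.gammaAb X).mapHomologicalComplex (ComplexShape.up ℤ)

/-- `O_X` as a complex. -/
noncomputable abbrev OC (X : Scheme.{u}) : CochainComplex X.Modules ℤ :=
  (HomologicalComplex.single X.Modules (ComplexShape.up ℤ) 0).obj (Coh.structureModule X)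

/-- The section `1`. -/
noncomputable def oneC (X : Scheme.{u}) : ((GC X).obj (OC X)).X 0 :=
  (HomologicalComplex.singleObjXSelf (.up ℤ) 0 (Coh.structureModule X)).inv.app ⊤ (one ⊤)

lemma exists_oneCycle (X : Scheme.{u}) :
    ∃ z : ((GC X).obj (OC X)).cycles 0, ((GC X).obj (OC X)).iCycles 0 z = oneC X := by
  apply exists_cycle
  change ((OC X).d 0 (0 + 1)).app ⊤ (oneC X) = 0
  rw [HomologicalComplex.single_obj_d]
  rfl

/-- The class of `1`. -/
noncomputable def oneZ (X : Scheme.{u}) : ((GC X).obj (OC X)).cycles 0 := (exists_oneCycle X).choose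

lemma iCycles_oneZ (X : Scheme.{u}) :
    ((GC X).obj (OC X)).iCycles 0 (oneZ X) = oneC X := (exists_oneCycle X).choose_spec

lemma iCycles_cyclesMap {C : CochainComplex X.Modules ℤ} (z : Coh.structureModule X ⟶ C.X 0)
    (hz : z ≫ C.d 0 (0 + 1) = 0) :
    ((GC X).obj C).iCycles 0
      (HomologicalComplex.cyclesMap ((GC X).map (cocycleHom z hz)) 0 (oneZ X)) =
      (z.app ⊤ (one ⊤) : Γ(C.X 0, ⊤)) := by
  have h1 : ((GC X).obj C).iCycles 0
      (HomologicalComplex.cyclesMap ((GC X).map (cocycleHom z hz)) 0 (oneZ X)) =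
      ((GC X).map (cocycleHom z hz)).f 0 (((GC X).obj (OC X)).iCycles 0 (oneZ X)) :=
    ConcreteCategory.congr_hom (HomologicalComplex.cyclesMap_i ((GC X).map (cocycleHom z hz)) 0)
      (oneZ X)
  rw [h1, iCycles_oneZ]
  change ((cocycleHom z hz).f 0).app ⊤ (oneC X) = _
  rw [cocycleHom_f]
  unfold oneC
  change z.app ⊤ ((HomologicalComplex.singleObjXSelf (.up ℤ) 0 (Coh.structureModule X)).hom.app ⊤
    ((HomologicalComplex.singleObjXSelf (.up ℤ) 0 (Coh.structureModule X)).inv.app ⊤ (one ⊤))) = _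
  congr 1

variable [DCoh.HasRΓ X]

/-- `H^0(Γ(C)) ⟶ H^0(RΓ(C))`. -/
noncomputable def kap (X : Scheme.{u}) [DCoh.HasRΓ X] :
    GC X ⋙ HomologicalComplex.homologyFunctor AddCommGrpCat.{u} (.up ℤ) 0 ⟶
      DerivedCategory.Q ⋙ DCoh.RΓ X ⋙ DerivedCategory.homologyFunctor AddCommGrpCat.{u} 0 :=
  Functor.whiskerLeft (GC X) (DerivedCategory.homologyFunctorFactors AddCommGrpCat.{u} 0).inv ≫
    (Functor.associator _ _ _).inv ≫
    Functor.whiskerRight (unitQ (DCoh.gammaAb X) (DCoh.RΓ X) (rgUnit X))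
      (DerivedCategory.homologyFunctor AddCommGrpCat.{u} 0) ≫ (Functor.associator _ _ _).hom

lemma isIso_kap_app (I : CochainComplex X.Modules ℤ) (hI : I.IsKInjective) :
    IsIso ((kap X).app I) := by
  have h : IsIso ((rgUnit X).app ((HomotopyCategory.quotient _ _).obj I)) :=
    isIso_unit_app' (hasKInj X) (DCoh.RΓ X) (rgUnit X) I hI
  have := isIso_unitQ_app (DCoh.gammaAb X) (DCoh.RΓ X) (rgUnit X) I h
  have h2 : (kap X).app I =
      (DerivedCategory.homologyFunctorFactors AddCommGrpCat.{u} 0).inv.app ((GC X).obj I) ≫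
      (DerivedCategory.homologyFunctor AddCommGrpCat.{u} 0).map
        ((unitQ (DCoh.gammaAb X) (DCoh.RΓ X) (rgUnit X)).app I) := by
    simp [kap]
  rw [h2]
  exact IsIso.comp_isIso' inferInstance inferInstance

/-- The class `1 ∈ H^0(RΓ(O_X))`. -/
noncomputable def uel (X : Scheme.{u}) [DCoh.HasRΓ X] :
    (DerivedCategory.homologyFunctor AddCommGrpCat.{u} 0).obj
      ((DCoh.RΓ X).obj (DCoh.inD X (Coh.structureModule X))) :=
  (kap X).app (OC X) (((GC X).obj (OC X)).homologyπ 0 (oneZ X))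

/-- `Hom(O_X, K) → H^0(RΓ(K))`. -/
noncomputable def ev (K : DCoh.D X) (f : DCoh.inD X (Coh.structureModule X) ⟶ K) :
    (DerivedCategory.homologyFunctor AddCommGrpCat.{u} 0).obj ((DCoh.RΓ X).obj K) :=
  (DerivedCategory.homologyFunctor AddCommGrpCat.{u} 0).map ((DCoh.RΓ X).map f) (uel X)

lemma ev_comp {K L : DCoh.D X} (f : DCoh.inD X (Coh.structureModule X) ⟶ K) (g : K ⟶ L) :
    ev L (f ≫ g) =
      (DerivedCategory.homologyFunctor AddCommGrpCat.{u} 0).map ((DCoh.RΓ X).map g) (ev K f) := by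
  unfold ev
  rw [Functor.map_comp, Functor.map_comp]
  rfl

lemma ev_ofCocycle {C : CochainComplex X.Modules ℤ} (z : Coh.structureModule X ⟶ C.X 0)
    (hz : z ≫ C.d 0 (0 + 1) = 0) :
    ev (DerivedCategory.Q.obj C) (ofCocycle z hz) =
      (kap X).app C (((GC X).obj C).homologyπ 0
        (HomologicalComplex.cyclesMap ((GC X).map (cocycleHom z hz)) 0 (oneZ X))) := by
  have h1 := ConcreteCategory.congr_hom ((kap X).naturality (cocycleHom z hz))
    (((GC X).obj (OC X)).homologyπ 0 (oneZ X))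
  have h2 := ConcreteCategory.congr_hom
    (HomologicalComplex.homologyπ_naturality ((GC X).map (cocycleHom z hz)) 0) (oneZ X)
  refine h1.symm.trans ?_
  exact congrArg ((kap X).app C) h2

lemma bijective_ev_Q (I : CochainComplex X.Modules ℤ) (hI : I.IsKInjective) :
    Function.Bijective (ev (DerivedCategory.Q.obj I)) := by
  have hk := isIso_kap_app I hI
  have hki : Function.Injective ((kap X).app I) :=
    (AddCommGrpCat.mono_iff_injective _).1 inferInstance
  have hks : Function.Surjective ((kap X).app I) :=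
    (AddCommGrpCat.epi_iff_surjective _).1 inferInstance
  constructor
  · intro φ ψ hφψ
    obtain ⟨z, hz, rfl⟩ := exists_cocycle_of_isKInjective φ
    obtain ⟨w, hw, rfl⟩ := exists_cocycle_of_isKInjective ψ
    rw [ev_ofCocycle, ev_ofCocycle] at hφψ
    have h1 := hki hφψ
    let a := HomologicalComplex.cyclesMap ((GC X).map (cocycleHom z hz)) 0 (oneZ X)
    let b := HomologicalComplex.cyclesMap ((GC X).map (cocycleHom w hw)) 0 (oneZ X)
    have h2 : ((GC X).obj I).homologyπ 0 (a - b) = 0 := by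
      rw [map_sub, sub_eq_zero]
      exact h1
    obtain ⟨c, hc⟩ := exists_bound ((GC X).obj I) (-1) 0 (by norm_num) (a - b) h2
    rw [map_sub] at hc
    have hc' : (I.d (-1) 0).app ⊤ (c : Γ(I.X (-1), ⊤)) = z.app ⊤ (one ⊤) - w.app ⊤ (one ⊤) :=
      hc.trans (congrArg₂ (· - ·) (iCycles_cyclesMap z hz) (iCycles_cyclesMap w hw))
    have hzw : (z - w) ≫ I.d 0 (0 + 1) = 0 := by rw [Preadditive.sub_comp, hz, hw, sub_zero]
    have h3 : ofCocycle (z - w) hzw = 0 := by
      refine ofCocycle_eq_zero (n := -1) (by norm_num) _ _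
        (unitHom (M := I.X (-1)) (c : Γ(I.X (-1), ⊤))) ?_
      rw [unitHom_comp]
      apply unit_hom_ext
      rw [unitHom_app_one]
      exact hc'
    have h4 : ofCocycle (z - w) hzw = ofCocycle z hz - ofCocycle w hw := by
      have : cocycleHom (z - w) hzw = cocycleHom z hz - cocycleHom w hw := by
        apply HomologicalComplex.from_single_hom_ext
        rw [HomologicalComplex.sub_f_apply, cocycleHom_f, cocycleHom_f, cocycleHom_f,
          Preadditive.comp_sub]
      exact (congrArg DerivedCategory.Q.map this).trans (Functor.map_sub _)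
    rw [h3] at h4
    exact (sub_eq_zero.1 h4.symm)
  · intro y
    obtain ⟨y', rfl⟩ := hks y
    obtain ⟨s, rfl⟩ := surjective_homologyπ ((GC X).obj I) 0 y'
    let a : Γ(I.X 0, ⊤) := ((GC X).obj I).iCycles 0 s
    have ha : (I.d 0 (0 + 1)).app ⊤ a = 0 :=
      ConcreteCategory.congr_hom (((GC X).obj I).iCycles_d 0 (0 + 1)) s
    have hz : unitHom a ≫ I.d 0 (0 + 1) = 0 := by
      rw [unitHom_comp, ha]
      apply unit_hom_ext
      rw [unitHom_app_one]
      rfl
    refine ⟨ofCocycle (unitHom a) hz, ?_⟩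
    rw [ev_ofCocycle]
    congr 2
    apply injective_iCycles
    rw [iCycles_cyclesMap, unitHom_app_one]

theorem bijective_ev (K : DCoh.D X) : Function.Bijective (ev K) := by
  obtain ⟨I, f, hI, hf⟩ := hasKInj X (DerivedCategory.Q.objPreimage K)
  have hfQ : IsIso (DerivedCategory.Q.map f) := by
    rw [DerivedCategory.isIso_Q_map_iff_quasiIso]
    exact hf
  let e : K ≅ DerivedCategory.Q.obj I :=
    (DerivedCategory.Q.objObjPreimageIso K).symm ≪≫ asIso (DerivedCategory.Q.map f)
  have h1 := bijective_ev_Q I hI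
  have h2 : ev K = (((DCoh.RΓ X ⋙ DerivedCategory.homologyFunctor AddCommGrpCat.{u} 0).mapIso
      e).addCommGroupIsoToAddEquiv).symm ∘ ev (DerivedCategory.Q.obj I) ∘
      (fun f => f ≫ e.hom) := by
    funext g
    simp only [Function.comp_apply]
    rw [ev_comp]
    exact (((DCoh.RΓ X ⋙ DerivedCategory.homologyFunctor AddCommGrpCat.{u} 0).mapIso
      e).addCommGroupIsoToAddEquiv.symm_apply_apply (ev K g)).symm
  rw [h2]
  refine (AddEquiv.bijective _).comp (h1.comp ?_)
  exact ⟨fun a b hab => (cancel_mono e.hom).1 hab, fun b => ⟨b ≫ e.inv, by simp⟩⟩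

/-- `Hom(O_X, K⟦n⟧) ≃ H^n(RΓ(K))`, naturally in `K`. -/
theorem exists_equiv (X : Scheme.{u}) [DCoh.HasRΓ X] (n : ℤ) :
    ∃ e : ∀ K : DCoh.D X, (DCoh.inD X (Coh.structureModule X) ⟶ K⟦n⟧) ≃
        (DerivedCategory.homologyFunctor AddCommGrpCat.{u} n).obj ((DCoh.RΓ X).obj K),
      ∀ (K L : DCoh.D X) (g : K ⟶ L) (f : DCoh.inD X (Coh.structureModule X) ⟶ K⟦n⟧),
        e L (f ≫ g⟦n⟧') =
          (DerivedCategory.homologyFunctor AddCommGrpCat.{u} n).map ((DCoh.RΓ X).map g)
            (e K f) := by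
  let := rgCommShift (X := X)
  let α : shiftFunctor (DCoh.D X) n ⋙ DCoh.RΓ X ⋙
      DerivedCategory.homologyFunctor AddCommGrpCat.{u} 0 ≅
      DCoh.RΓ X ⋙ DerivedCategory.homologyFunctor AddCommGrpCat.{u} n :=
    (Functor.associator _ _ _).symm ≪≫
      Functor.isoWhiskerRight ((DCoh.RΓ X).commShiftIso n) _ ≪≫ Functor.associator _ _ _ ≪≫
      Functor.isoWhiskerLeft (DCoh.RΓ X)
        (((DerivedCategory.homologyFunctor AddCommGrpCat.{u} 0).shiftIso n 0 n (by omega)))
  refine ⟨fun K => (Equiv.ofBijective _ (bijective_ev (K⟦n⟧))).trans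
    ((α.app K).addCommGroupIsoToAddEquiv).toEquiv, ?_⟩
  intro K L g f
  change α.hom.app L (ev _ (f ≫ g⟦n⟧')) = _
  rw [ev_comp]
  exact ConcreteCategory.congr_hom (α.hom.naturality g) (ev _ f)

end K351.HypGam
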