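import Groth.Agent.S1749
import Groth.Agent.S0342
import Groth.Agent.Sga2.RegExt2
import Groth.Agent.LoccohB.HomBC2
import Groth.Agent.LoccohB.DualShift
import Groth.Agent.Localalg.DGor
import Groth.Agent.Localalg.Matlis3
import Groth.Agent.CycA.IntCore2

/-!
# Duality for modules supported at a maximal ideal of a regular point

`R` Noetherian, `𝔪` maximal, `A = R_𝔪` regular local of dimension `d`, `M` a finite `R`-module killed
by a power of `𝔪`, `N = M_𝔪`. Then `Hom_{D(R)}(M, R[i]) = 0` for `i ≠ d` and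
`Hom_{D(R)}(M, R[d]) ≅ Hom_A(N, E)` for an injective hull `E` of the residue field of `A`.
-/

set_option autoImplicit false

universe v u

open CategoryTheory CategoryTheory.Limits DerivedCategory IsLocalRing TensorProduct

attribute [local instance] HasDerivedCategory.standard

namespace K351.LocDualR

section Tors

variable {R : Type u} [CommRing R] (𝔪 : Ideal R) [h𝔪 : 𝔪.IsMaximal] (n : ℕ)

/-- Elements outside `𝔪` act bijectively on modules killed by a power of `𝔪`. -/
theorem bijective_smul {T : Type*} [AddCommGroup T] [Module R T]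
    (hT : ∀ a ∈ 𝔪 ^ n, ∀ t : T, a • t = 0) (s : R) (hs : s ∉ 𝔪) :
    Function.Bijective (fun t : T => s • t) := by
  have h1 : 𝔪 ^ n ⊔ Ideal.span {s} = ⊤ := by
    apply Ideal.pow_sup_eq_top
    rw [Ideal.eq_top_iff_one]
    obtain ⟨y, i, hi, hyi⟩ := h𝔪.exists_inv hs
    rw [← hyi, add_comm]
    exact Submodule.add_mem_sup hi (Ideal.mem_span_singleton'.2 ⟨y, rfl⟩)
  rw [Ideal.eq_top_iff_one] at h1
  obtain ⟨a, ha, c, hc, hac⟩ := Submodule.mem_sup.1 h1
  obtain ⟨b, rfl⟩ := Ideal.mem_span_singleton'.1 hc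
  have key : ∀ t : T, b • s • t = t := by
    intro t
    have : (a + b * s) • t = t := by rw [hac, one_smul]
    rwa [add_smul, hT a ha, zero_add, mul_smul] at this
  refine ⟨fun t t' h => ?_, fun t => ⟨b • t, ?_⟩⟩
  · rw [← key t, ← key t']
    exact congrArg (b • ·) h
  · change s • b • t = t
    rw [smul_comm]
    exact key t

/-- Localization at `𝔪` does nothing to modules killed by a power of `𝔪`. -/
theorem bijective_loc {T T' : Type*} [AddCommGroup T] [Module R T] [AddCommGroup T'] [Module R T']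
    (l : T →ₗ[R] T') [IsLocalizedModule 𝔪.primeCompl l]
    (hT : ∀ a ∈ 𝔪 ^ n, ∀ t : T, a • t = 0) : Function.Bijective l := by
  constructor
  · rw [injective_iff_map_eq_zero]
    intro t ht
    obtain ⟨s, hs⟩ := (IsLocalizedModule.eq_zero_iff 𝔪.primeCompl l).1 ht
    refine (bijective_smul 𝔪 n hT s s.2).injective ?_
    change (s : R) • t = (s : R) • (0 : T)
    rw [smul_zero]
    exact hs
  · intro y
    obtain ⟨⟨x, s⟩, hx⟩ := IsLocalizedModule.surj 𝔪.primeCompl l y
    obtain ⟨x', hx'⟩ := (bijective_smul 𝔪 n hT s s.2).surjective x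
    refine ⟨x', ?_⟩
    have hu := IsLocalizedModule.map_units (S := 𝔪.primeCompl) l s
    apply ((Module.End.isUnit_iff _).1 hu).injective
    change (s : R) • l x' = (s : R) • y
    rw [← map_smul]
    exact (congrArg l hx').trans hx.symm

end Tors

section Normal

/-- `A[d]` is a normalized dualizing complex for a regular local ring `A` of dimension `d`. -/
theorem isNormalized (A : Type u) [CommRing A] [hA : IsRegularLocalRing A]
    (d : ℕ) (hd : ringKrullDim A = d) : Dual.IsNormalized A ((Dual.inD A A)⟦(d : ℤ)⟧) := by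
  have hg := Groth.Agent.Sga2.RegExt.isGorDim_of_regular (A := A) d hd
  apply Groth.Agent.LoccohB.DualShift.isNormalized_shift
  intro i hi
  rcases lt_or_ge i 0 with h | h
  · exact Groth.Agent.Localalg.DGor.subsingleton_hom_neg A _ A i h
  · obtain ⟨j, rfl⟩ := Int.eq_ofNat_of_zero_le h
    rw [Groth.Agent.Localalg.DGor.subsingleton_hom_iff]
    refine hg.vanish (ModuleCat.of A (ResidueField A)) ?_ j (by exact_mod_cast hi)
    have : Module.Finite A (ResidueField A) := Module.Finite.of_surjective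
      (Algebra.linearMap A (ResidueField A)) (IsLocalRing.residue_surjective)
    exact Groth.Agent.Localalg.Matlis.isFiniteLength_of_pow_smul 1 (fun a ha x => by
      rw [pow_one] at ha
      rw [Algebra.smul_def]
      change IsLocalRing.residue A a * x = 0
      rw [(IsLocalRing.residue_eq_zero_iff a).2 ha, zero_mul])

theorem isDualizing (A : Type u) [CommRing A] [hA : IsRegularLocalRing A] (n : ℤ) :
    Dual.IsDualizing A ((Dual.inD A A)⟦n⟧) := by
  have : LocCoh.IsGorensteinLocalRing A := Groth.Agent.S0342.result A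
  exact Groth.Agent.LoccohB.DualShift.isDualizing_shift _
    (Groth.Agent.Localalg.DGor.isDualizing_of_gorenstein (A := A)) n

/-- Duality for modules of finite length over a regular local ring. -/
theorem local_duality (A : Type u) [CommRing A] [hA : IsRegularLocalRing A]
    (d : ℕ) (hd : ringKrullDim A = d) (E : Type u) [AddCommGroup E] [Module A E]
    (ι : ResidueField A →ₗ[A] E) (hι : InjHull.IsInjectiveHull ι)
    (N : Type u) [AddCommGroup N] [Module A N] (hN : IsFiniteLength A N) :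
    (∀ i : ℤ, i ≠ d → Subsingleton (Dual.inD A N ⟶ (Dual.inD A A)⟦i⟧)) ∧
      Nonempty ((Dual.inD A N ⟶ (Dual.inD A A)⟦(d : ℤ)⟧) ≃ₗ[A] (N →ₗ[A] E)) := by
  obtain ⟨h1, h2⟩ := Groth.Agent.S1749.result A _ (isDualizing A (d : ℤ)) (isNormalized A d hd) E ι hι
    N hN
  refine ⟨fun i hi => ?_, h2⟩
  have := h1 (i - d) (by omega)
  exact (Groth.Agent.LoccohB.DualShift.homShift (Dual.inD A N) (Dual.inD A A) d (i - d) i
    (by omega)).toEquiv.symm.subsingleton

end Normal

section Main

variable {R : Type u} [CommRing R] [IsNoetherianRing R] (𝔪 : Ideal R) [h𝔪 : 𝔪.IsMaximal]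
  (A : Type u) [CommRing A] [Algebra R A] [hloc : IsLocalization.AtPrime A 𝔪]
  [hA : IsRegularLocalRing A]

omit [IsNoetherianRing R] hA in
include hloc in
theorem flat_algebraMap_loc : (algebraMap R A).Flat := by
  rw [RingHom.flat_algebraMap_iff]
  exact IsLocalization.flat A 𝔪.primeCompl

variable (d : ℕ) (hd : ringKrullDim A = d) (E : Type u) [AddCommGroup E] [Module A E]
  (ι : ResidueField A →ₗ[A] E) (hι : InjHull.IsInjectiveHull ι)
  (M : Type u) [AddCommGroup M] [Module R M] [Module.Finite R M] (n : ℕ)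
  (hM : ∀ a ∈ 𝔪 ^ n, ∀ t : M, a • t = 0)
  (N : Type u) [AddCommGroup N] [Module A N] [Module R N] [IsScalarTower R A N]
  (l : M →ₗ[R] N) [hl : IsLocalizedModule 𝔪.primeCompl l]

omit hA in
include hloc hl in
/-- `A ⊗_R Hom(M, R[i]) ≃ Hom_A(N, A[i])`. -/
theorem nonempty_homEquiv (i : ℤ) :
    Nonempty (A ⊗[R] (Dual.inD R M ⟶ (Dual.inD R R)⟦i⟧) ≃ₗ[A]
      (Dual.inD A N ⟶ (Dual.inD A A)⟦i⟧)) := by
  have hfl := flat_algebraMap_loc 𝔪 A
  let e1 : (ModuleCat.extendScalars.{u, u, u} (algebraMap R A)).obj (ModuleCat.of R R) ≅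
      ModuleCat.of A A :=
    ((Groth.Agent.LoccohB.FlatLBC.extEquiv R A (ModuleCat.of R R)).symm ≪≫ₗ
      AlgebraTensorModule.rid R A A).toModuleIso
  let e2 : (ModuleCat.extendScalars.{u, u, u} (algebraMap R A)).obj (ModuleCat.of R M) ≅
      ModuleCat.of A N :=
    ((Groth.Agent.LoccohB.FlatLBC.extEquiv R A (ModuleCat.of R M)).symm ≪≫ₗ
      (IsLocalizedModule.isBaseChange 𝔪.primeCompl A l).equiv).toModuleIso
  have hge : (Dual.inD R R).IsGE 0 := inferInstanceAs
    (((singleFunctor (ModuleCat.{u} R) 0).obj (ModuleCat.of R R)).IsGE 0)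
  exact ⟨Groth.Agent.LoccohB.HomBC.homBCModuleEquiv A hfl (ModuleCat.of R M) (Dual.inD R R) 0 i ≪≫ₗ
    Linear.homCongr A ((singleFunctor (ModuleCat.{u} A) 0).mapIso e2)
      ((shiftFunctor (Dual.D A) i).mapIso
        ((Groth.Agent.LoccohB.FlatLBC.flatBCSingle (algebraMap R A) hfl 0).app (ModuleCat.of R R) ≪≫
          (singleFunctor (ModuleCat.{u} A) 0).mapIso e1))⟩

omit [IsNoetherianRing R] [Module.Finite R M] h𝔪 in
include hM in
/-- `Hom(M, R[i])` is killed by what kills `M`. -/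
theorem smul_hom_eq_zero (i : ℤ) (a : R) (ha : a ∈ 𝔪 ^ n)
    (f : Dual.inD R M ⟶ (Dual.inD R R)⟦i⟧) : a • f = 0 := by
  have h1 : a • (𝟙 (Dual.inD R M)) = 0 := by
    have h2 : a • (𝟙 (ModuleCat.of R M)) = 0 := by
      ext t
      exact hM a ha t
    have h3 := congrArg (singleFunctor (ModuleCat.{u} R) 0).map h2
    rw [Functor.map_smul, CategoryTheory.Functor.map_id, Functor.map_zero] at h3
    exact h3
  calc a • f = (a • 𝟙 (Dual.inD R M)) ≫ f := by rw [Linear.smul_comp, Category.id_comp]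
    _ = 0 := by rw [h1, zero_comp]

variable (M' : Type u) [AddCommGroup M'] [Module R M'] (n' : ℕ)
  (hM' : ∀ a ∈ 𝔪 ^ n', ∀ t : M', a • t = 0)
  (N' : Type u) [AddCommGroup N'] [Module A N'] [Module R N'] [IsScalarTower R A N']
  (l' : M' →ₗ[R] N') [hl' : IsLocalizedModule 𝔪.primeCompl l']

include hloc hl hM in
omit hA in
theorem bijective_mk (i : ℤ) : Function.Bijective
    (TensorProduct.mk R A (Dual.inD R M ⟶ (Dual.inD R R)⟦i⟧) 1) := by
  have : IsLocalizedModule 𝔪.primeCompl
      (TensorProduct.mk R A (Dual.inD R M ⟶ (Dual.inD R R)⟦i⟧) 1) :=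
    (isLocalizedModule_iff_isBaseChange 𝔪.primeCompl A _).2
      (TensorProduct.isBaseChange R (Dual.inD R M ⟶ (Dual.inD R R)⟦i⟧) A)
  exact bijective_loc 𝔪 n _ (fun a ha f => smul_hom_eq_zero 𝔪 M n hM i a ha f)

include hloc hl hM in
omit [IsNoetherianRing R] hA in
theorem isFiniteLength_of_loc [IsLocalRing A] [IsNoetherianRing A] : IsFiniteLength A N := by
  have hfin : Module.Finite A N := Module.Finite.of_isLocalizedModule 𝔪.primeCompl l
  refine Groth.Agent.Localalg.Matlis.isFiniteLength_of_pow_smul n (fun a ha x => ?_)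
  have h1 : ∀ b ∈ 𝔪 ^ n, ∀ x : N, b • x = 0 := by
    intro b hb x
    obtain ⟨⟨y, s⟩, hy⟩ := IsLocalizedModule.surj 𝔪.primeCompl l x
    have hu := IsLocalizedModule.map_units (S := 𝔪.primeCompl) l s
    apply ((Module.End.isUnit_iff _).1 hu).injective
    change (s : R) • b • x = (s : R) • (0 : N)
    rw [smul_zero, smul_comm]
    change b • ((s : R) • x) = 0
    have h2 : (s : R) • x = l y := hy
    rw [h2, ← map_smul, hM b hb, map_zero]
  rw [← IsLocalization.AtPrime.map_eq_maximalIdeal 𝔪 A, ← Ideal.map_pow] at ha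
  refine Submodule.span_induction (p := fun a _ => a • x = 0) ?_ ?_ ?_ ?_ ha
  · rintro _ ⟨b, hb, rfl⟩
    rw [algebraMap_smul]
    exact h1 b hb x
  · exact zero_smul _ _
  · intro b c _ _ hb hc
    rw [add_smul, hb, hc, add_zero]
  · intro b c _ hc
    rw [smul_eq_mul, mul_smul, hc, smul_zero]

include hloc hd hι hM hl hM' hl' in
/-- `Hom_{D(R)}(M, R[i])` for `M` supported at `𝔪`. -/
theorem main (hdual : N' ≃ₗ[A] (N →ₗ[A] E)) :
    (∀ i : ℤ, i ≠ d → Subsingleton (Dual.inD R M ⟶ (Dual.inD R R)⟦i⟧)) ∧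
      Nonempty ((Dual.inD R M ⟶ (Dual.inD R R)⟦(d : ℤ)⟧) ≃ₗ[R] M') := by
  have hfl := isFiniteLength_of_loc 𝔪 A M n hM N l
  obtain ⟨h1, ⟨e1⟩⟩ := local_duality A d hd E ι hι N hfl
  constructor
  · intro i hi
    obtain ⟨e⟩ := nonempty_homEquiv 𝔪 A M N l i
    have := h1 i hi
    have h2 := e.toEquiv.subsingleton
    exact (bijective_mk 𝔪 A M n hM N l i).injective.subsingleton
  · obtain ⟨e⟩ := nonempty_homEquiv 𝔪 A M N l d
    exact ⟨LinearEquiv.ofBijective _ (bijective_mk 𝔪 A M n hM N l d) ≪≫ₗ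
      ((e ≪≫ₗ e1 ≪≫ₗ hdual.symm).restrictScalars R) ≪≫ₗ
      (LinearEquiv.ofBijective l' (bijective_loc 𝔪 n' l' hM')).symm⟩

end Main

end K351.LocDualR
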