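import Groth.Agent.DEquiv.K351.LocDualR
import Groth.Agent.LoccohB.BiAffine
import Groth.Agent.LoccohB.HomCxHD
import Groth.Agent.LoccohB.Devissage
import Groth.Agent.Divis.StalkMod
import Groth.Agent.Models2.LocRes
import Groth.Agent.Dual.H326.GorDualSch
import Groth.Agent.PerfC.ExtZeroD
import Groth.Agent.S0377

/-!
# The dual of a coherent module supported at a closed point of a regular scheme
-/

set_option autoImplicit false

universe u

open CategoryTheory CategoryTheory.Limits AlgebraicGeometry DerivedCategory IsLocalRing Opposite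

attribute [local instance] HasDerivedCategory.standard

namespace K351.LocDualS

open Groth.Agent.LoccohB Groth.Agent.PerfC.RHomD Groth.Agent.PerfA.Restrict

section Ring

variable {R : Type u} [CommRing R]

/-- `H^n(RHom(K, L)) ≃ Hom(K, L[n])`. -/
theorem nonempty_HD (K : DRing.Cx R) [DRing.HasRHomCx K] (L : Dual.D R) (n : ℤ) :
    Nonempty (Dual.HD R ((DRing.RHomCx K).obj L) n ≃ₗ[R] (DRing.toD K ⟶ L⟦n⟧)) := by
  obtain ⟨I, hI, ⟨e⟩⟩ := LTen.exists_kinj L
  exact ⟨((homologyFunctor (ModuleCat.{u} R) n).mapIso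
      ((DRing.RHomCx K).mapIso e.symm ≪≫ (RHomVal.rhomIso K I).symm)).toLinearEquiv ≪≫ₗ
    HomCxHD.hdEquiv (DRing.homCx K I) n ≪≫ₗ
    HomCxHD.homologyEquiv K I n (HomCxHD.computes_of_isKInjective K I) ≪≫ₗ
    Linear.homCongr R (Iso.refl _) ((shiftFunctor _ n).mapIso e)⟩

/-- `RHom(M, R) ≅ M'[-d]`. -/
theorem nonempty_rhom (M M' : Type u) [AddCommGroup M] [Module R M] [AddCommGroup M'] [Module R M']
    (K : DRing.Cx R) [DRing.HasRHomCx K] (eK : DRing.toD K ≅ Dual.inD R M) (d : ℤ)
    (h1 : ∀ i : ℤ, i ≠ d → Subsingleton (Dual.inD R M ⟶ (Dual.inD R R)⟦i⟧))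
    (h2 : (Dual.inD R M ⟶ (Dual.inD R R)⟦d⟧) ≃ₗ[R] M') :
    Nonempty ((DRing.RHomCx K).obj (Dual.inD R R) ≅
      (singleFunctor (ModuleCat.{u} R) d).obj (ModuleCat.of R M')) := by
  have h3 : ∀ i : ℤ, i ≠ d → IsZero ((homologyFunctor (ModuleCat.{u} R) i).obj
      ((DRing.RHomCx K).obj (Dual.inD R R))) := by
    intro i hi
    obtain ⟨e⟩ := nonempty_HD K (Dual.inD R R) i
    have := h1 i hi
    have h4 : Subsingleton (DRing.toD K ⟶ (Dual.inD R R)⟦i⟧) :=
      (eK.homCongr (Iso.refl _)).subsingleton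
    exact ModuleCat.isZero_iff_subsingleton.2 e.toEquiv.subsingleton
  have hge : ((DRing.RHomCx K).obj (Dual.inD R R)).IsGE d := by
    rw [isGE_iff]
    exact fun i hi => h3 i hi.ne
  have hle : ((DRing.RHomCx K).obj (Dual.inD R R)).IsLE d := by
    rw [isLE_iff]
    exact fun i hi => h3 i hi.ne'
  obtain ⟨e⟩ := Devissage.nonempty_iso_single ((DRing.RHomCx K).obj (Dual.inD R R)) d
  obtain ⟨e1⟩ := nonempty_HD K (Dual.inD R R) d
  let e2 : (homologyFunctor (ModuleCat.{u} R) d).obj ((DRing.RHomCx K).obj (Dual.inD R R)) ≅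
      ModuleCat.of R M' :=
    (e1 ≪≫ₗ Linear.homCongr R eK (Iso.refl _) ≪≫ₗ h2).toModuleIso
  exact ⟨e ≪≫ (singleFunctor (ModuleCat.{u} R) d).mapIso e2⟩

end Ring

section Sections

variable {X : Scheme.{u}}

/-- The support of the module of sections over an affine open. -/
theorem mem_support {F : X.Modules} (hF : Coh.IsQCoh F) {U : X.Opens} (hU : IsAffineOpen U)
    (p : PrimeSpectrum Γ(X, U)) (hp : p ∈ Module.support Γ(X, U) Γ(F, U)) :
    hU.fromSpec p ∈ CohB1.support F := by
  have hy : hU.fromSpec p ∈ U := by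
    have : hU.fromSpec p ∈ Set.range hU.fromSpec := ⟨p, rfl⟩
    rw [hU.range_fromSpec] at this
    exact this
  have hpp : hU.primeIdealOf ⟨hU.fromSpec p, hy⟩ = p :=
    hU.fromSpec.isOpenEmbedding.injective (hU.fromSpec_primeIdealOf ⟨hU.fromSpec p, hy⟩)
  have hp' : hU.primeIdealOf ⟨hU.fromSpec p, hy⟩ ∈ Module.support Γ(X, U) Γ(F, U) := by
    rw [hpp]
    exact hp
  generalize hU.fromSpec p = y at hy hp'
  refine Groth.Agent.Divis.StalkMod.stalk_elim F hF hU y hy ?_
  intro _ _ _ _ l _ _ _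
  rw [Module.mem_support_iff] at hp'
  change ¬ Subsingleton (F.presheaf.stalk y)
  rw [not_subsingleton_iff_nontrivial]
  exact (IsLocalizedModule.iso (hU.primeIdealOf ⟨y, hy⟩).asIdeal.primeCompl l).symm.toEquiv.nontrivial

/-- The sections of a coherent module supported at a closed point are killed by a power of the
maximal ideal. -/
theorem exists_pow [IsLocallyNoetherian X] {F : X.Modules} (hF : Coh.IsCoh F) {U : X.Opens}
    (hU : IsAffineOpen U) (x : X) (hx : x ∈ U) (hs : CohB1.support F ⊆ {x}) :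
    ∃ n : ℕ, ∀ a ∈ (hU.primeIdealOf ⟨x, hx⟩).asIdeal ^ n, ∀ t : Γ(F, U), a • t = 0 := by
  have hN : IsNoetherianRing Γ(X, U) := IsLocallyNoetherian.component_noetherian ⟨U, hU⟩
  have hfin := Groth.Agent.Divis.StalkMod.finite_sections hF hU
  have h1 : (hU.primeIdealOf ⟨x, hx⟩).asIdeal ≤ (Module.annihilator Γ(X, U) Γ(F, U)).radical := by
    intro a ha
    rw [← PrimeSpectrum.vanishingIdeal_zeroLocus_eq_radical, ← Module.support_eq_zeroLocus,
      PrimeSpectrum.mem_vanishingIdeal]
    intro p hp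
    have h2 : hU.fromSpec p = x := hs (mem_support hF.1 hU p hp)
    have h3 : p = hU.primeIdealOf ⟨x, hx⟩ :=
      hU.fromSpec.isOpenEmbedding.injective (h2.trans (hU.fromSpec_primeIdealOf ⟨x, hx⟩).symm)
    rw [h3]
    exact ha
  obtain ⟨n, hn⟩ := Ideal.exists_pow_le_of_le_radical_of_fg h1 (IsNoetherian.noetherian _)
  exact ⟨n, fun a ha t => Module.mem_annihilator.1 (hn ha) t⟩

end Sections

section Supp

variable {X : Scheme.{u}}

theorem isZero_restrict_of_support {F : X.Modules} {Y : Scheme.{u}} (j : Y ⟶ X)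
    [IsOpenImmersion j] (h : Disjoint (CohB1.support F) (Set.range j)) :
    IsZero ((Scheme.Modules.restrictFunctor j).obj F) := by
  apply Groth.Agent.CohqB.DevSupport.isZero_of_support_eq_empty
  have := Groth.Agent.PerfC.Supp.support_restrict j F
  rw [Set.eq_empty_iff_forall_notMem]
  intro y hy
  have h2 : y ∈ (j ⁻¹' CohB1.support F : Set Y) := by
    rw [← this]
    exact hy
  exact Set.disjoint_left.1 h h2 ⟨y, rfl⟩

theorem supp_subset {K : DCoh.D X} {Y : Scheme.{u}} (j : Y ⟶ X) [IsOpenImmersion j]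
    (h : IsZero ((DCoh.restrictD j).obj K)) (i : ℤ) :
    Disjoint (Groth.Agent.PerfC.Supp.supp K i) (Set.range j) := by
  rw [Set.disjoint_left]
  rintro _ hy ⟨y, rfl⟩
  have h1 := Groth.Agent.PerfC.Supp.supp_restrictD j K i
  rw [Groth.Agent.PerfC.Supp.supp_zero h] at h1
  have : y ∈ (j ⁻¹' Groth.Agent.PerfC.Supp.supp K i : Set Y) := hy
  rw [← h1] at this
  exact this

/-- The complement of a closed point. -/
def compl (x : X) (hx : IsClosed ({x} : Set X)) : X.Opens := ⟨{x}ᶜ, hx.isOpen_compl⟩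

theorem range_compl (x : X) (hx : IsClosed ({x} : Set X)) :
    Set.range (compl x hx).ι = {x}ᶜ := Scheme.Opens.range_ι _

/-- Restriction to the complement of `x` of `F[-n]` is zero. -/
theorem isZero_single {F : X.Modules} (x : X) (hx : IsClosed ({x} : Set X))
    (hs : CohB1.support F ⊆ {x}) (n : ℤ) :
    IsZero ((DCoh.restrictD (compl x hx).ι).obj ((singleFunctor X.Modules n).obj F)) := by
  have h1 : IsZero ((Scheme.Modules.restrictFunctor (compl x hx).ι).obj F) := by
    apply isZero_restrict_of_support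
    rw [range_compl]
    exact (Set.disjoint_compl_right_iff_subset).2 hs
  exact ((singleFunctor _ n).map_isZero h1).of_iso
    (((Scheme.Modules.restrictFunctor (compl x hx).ι).mapDerivedCategorySingleFunctor n).app F)

theorem supp_subset_range {K : DCoh.D X} (x : X) (hx : IsClosed ({x} : Set X))
    (h : IsZero ((DCoh.restrictD (compl x hx).ι).obj K)) {Y : Scheme.{u}} (j : Y ⟶ X)
    [IsOpenImmersion j] (hj : x ∈ Set.range j) (i : ℤ) :
    Groth.Agent.PerfC.Supp.supp K i ⊆ Set.range j := by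
  intro y hy
  have h1 := supp_subset _ h i
  rw [range_compl, Set.disjoint_compl_right_iff_subset] at h1
  obtain rfl : y = x := h1 hy
  exact hj

/-- Objects supported at a closed point are determined by their restriction to a neighbourhood. -/
theorem nonempty_iso {K L : DCoh.D X} (x : X) (hx : IsClosed ({x} : Set X))
    (hK : IsZero ((DCoh.restrictD (compl x hx).ι).obj K))
    (hL : IsZero ((DCoh.restrictD (compl x hx).ι).obj L)) {Y : Scheme.{u}} (j : Y ⟶ X)
    [IsOpenImmersion j] (hj : x ∈ Set.range j)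
    (e : (DCoh.restrictD j).obj K ≅ (DCoh.restrictD j).obj L) : Nonempty (K ≅ L) := by
  have h1 := Groth.Agent.PerfC.ExtZeroD.isIso_counit_app j K (supp_subset_range x hx hK j hj)
  have h2 := Groth.Agent.PerfC.ExtZeroD.isIso_counit_app j L (supp_subset_range x hx hL j hj)
  exact ⟨(asIso ((Groth.Agent.PerfC.ExtZeroD.adjunction j).counit.app K)).symm ≪≫
    (Groth.Agent.PerfC.ExtZeroD.shriekD j).mapIso e ≪≫
    asIso ((Groth.Agent.PerfC.ExtZeroD.adjunction j).counit.app L)⟩

end Supp

end K351.LocDualS
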