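import Groth.Agent.DEquiv.K351.LocDualS
import Groth.Agent.Dual.H492.TensShift
import Groth.Agent.DEquiv.K351.HypGam
import Groth.Agent.Dcoh.PerfDual
import Groth.Agent.S1005

/-!
# `RHom(F, O_X) ≅ F'[-d]` for Matlis dual coherent modules supported at a closed point
-/

set_option autoImplicit false

universe u

open CategoryTheory CategoryTheory.Limits AlgebraicGeometry DerivedCategory IsLocalRing Opposite
  MonoidalCategory

attribute [local instance] HasDerivedCategory.standard

namespace K351.LocDualT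

open Groth.Agent.LoccohB Groth.Agent.PerfC.RHomD Groth.Agent.PerfA.Restrict K351.LocDualS

section Affine

variable {X : Scheme.{u}}

/-- `M[0]` on `Spec Γ(X, U)` for the sections of a quasi-coherent module. -/
theorem nonempty_restrict_single (F : X.Modules) (hF : Coh.IsQCoh F) {U : X.Opens}
    (hU : IsAffineOpen U) (n : ℤ) :
    Nonempty ((DCoh.restrictD hU.fromSpec).obj ((singleFunctor X.Modules n).obj F) ≅
      (DCoh.tildeD (CommRingCat.of Γ(X, U))).obj
        ((singleFunctor (ModuleCat.{u} Γ(X, U)) n).obj (ModuleCat.of Γ(X, U) Γ(F, U)))) := by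
  exact ⟨((Scheme.Modules.restrictFunctor hU.fromSpec).mapDerivedCategorySingleFunctor n).app F ≪≫
    (singleFunctor _ n).mapIso
      (Groth.Agent.Models2.FreeRes.restrictFromSpecIso F hF hU) ≪≫
    (((tilde.functor (CommRingCat.of Γ(X, U))).mapDerivedCategorySingleFunctor n).app _).symm⟩

end Affine

section Main

variable (k : Type u) [Field k] (X : Scheme.{u}) [X.Over (Spec (CommRingCat.of k))]
  [LocallyOfFiniteType (X ↘ Spec (CommRingCat.of k))]

include k in
/-- The coordinate ring of an affine open of a regular scheme of finite type over a field is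
dualizing. -/
theorem isDualizing_sections (hreg : Models.IsRegularScheme X) {U : X.Opens}
    (hU : IsAffineOpen U) : Dual.IsDualizing Γ(X, U) (Dual.inD Γ(X, U) Γ(X, U)) := by
  have hN : IsLocallyNoetherian X := LocallyOfFiniteType.isLocallyNoetherian (X ↘ Spec (CommRingCat.of k))
  have hNU : IsNoetherianRing Γ(X, U) := IsLocallyNoetherian.component_noetherian ⟨U, hU⟩
  have hG : LocCoh.IsGorensteinRing Γ(X, U) := by
    refine { isGorensteinLocalRing_localization := fun p hp => ?_ }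
    let q : PrimeSpectrum Γ(X, U) := ⟨p, hp⟩
    have hq : hU.fromSpec q ∈ U := by
      have : hU.fromSpec q ∈ Set.range hU.fromSpec := ⟨q, rfl⟩
      rw [hU.range_fromSpec] at this
      exact this
    let := TopCat.Presheaf.algebra_section_stalk X.presheaf ⟨hU.fromSpec q, hq⟩
    have hl : IsLocalization.AtPrime (X.presheaf.stalk (hU.fromSpec q)) p :=
      hU.isLocalization_stalk' q hq
    have := hreg (hU.fromSpec q)
    have := IsRegularLocalRing.of_ringEquiv
      (IsLocalization.algEquiv p.primeCompl (X.presheaf.stalk (hU.fromSpec q))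
        (Localization.AtPrime p)).toRingEquiv
    exact Groth.Agent.S0342.result (Localization.AtPrime p)
  -- a dualizing complex exists
  let φ : k →+* Γ(X, U) := ((Scheme.ΓSpecIso (CommRingCat.of k)).inv ≫
    (X ↘ Spec (CommRingCat.of k)).appLE ⊤ U le_top).hom
  let := φ.toAlgebra
  have hft : Algebra.FiniteType k Γ(X, U) := by
    have h1 : ((X ↘ Spec (CommRingCat.of k)).appLE ⊤ U le_top).hom.FiniteType :=
      HasRingHomProperty.appLE (P := @LocallyOfFiniteType) (X ↘ Spec (CommRingCat.of k)) inferInstance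
        ⟨⊤, isAffineOpen_top _⟩ ⟨U, hU⟩ le_top
    have h2 : φ.FiniteType := by
      refine RingHom.FiniteType.comp h1 ?_
      exact RingHom.FiniteType.of_surjective _
        (ConcreteCategory.bijective_of_isIso (Scheme.ΓSpecIso (CommRingCat.of k)).inv).2
    exact h2
  have hk : Dual.IsDualizing k (Dual.inD k k) := by
    have := Groth.Agent.S0342.result k
    exact Groth.Agent.Localalg.DGor.isDualizing_of_gorenstein (A := k)
  obtain ⟨ω', hω'⟩ := Groth.Agent.S0377.result k (Dual.inD k k) hk Γ(X, U)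
  exact Groth.Agent.Dual.H326.GorDualSch.isDualizing_self_of_isDualizing Γ(X, U) hω'

variable (hreg : Models.IsRegularScheme X) (x : X) (hx : IsClosed ({x} : Set X))
    (d : ℕ) (hd : ringKrullDim (X.presheaf.stalk x) = d)
    (E : Type u) [AddCommGroup E] [Module (X.presheaf.stalk x) E]
    (ι : IsLocalRing.ResidueField (X.presheaf.stalk x) →ₗ[(X.presheaf.stalk x)] E)
    (hι : InjHull.IsInjectiveHull ι)
    (F F' : X.Modules) (hF : Coh.IsCoh F) (hF' : Coh.IsCoh F')
    (hsF : CohB1.support F ⊆ {x}) (hsF' : CohB1.support F' ⊆ {x})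
    (hdual : (F'.presheaf.stalk x) ≃ₗ[(X.presheaf.stalk x)]
      ((F.presheaf.stalk x) →ₗ[(X.presheaf.stalk x)] E))

include k hreg hd hι hF hF' hsF hsF' hdual hx in
theorem nonempty_restrict_dual {U : X.Opens} (hU : IsAffineOpen U) (hxU : x ∈ U) :
    Nonempty ((DCoh.restrictD hU.fromSpec).obj ((RH (DCoh.inD X F)).obj
        (DCoh.inD X (Coh.structureModule X))) ≅
      (DCoh.restrictD hU.fromSpec).obj ((singleFunctor X.Modules (d : ℤ)).obj F')) := by
  have hN : IsLocallyNoetherian X := LocallyOfFiniteType.isLocallyNoetherian (X ↘ Spec (CommRingCat.of k))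
  have hNU : IsNoetherianRing Γ(X, U) := IsLocallyNoetherian.component_noetherian ⟨U, hU⟩
  have hω := isDualizing_sections k X hreg hU
  -- the maximal ideal
  let y := hU.primeIdealOf ⟨x, hxU⟩
  have hy : hU.fromSpec y = x := hU.fromSpec_primeIdealOf ⟨x, hxU⟩
  have hcl : IsClosed ({y} : Set (Spec Γ(X, U))) := by
    have h1 : ({y} : Set (Spec Γ(X, U))) = hU.fromSpec ⁻¹' {x} := by
      ext z
      constructor
      · rintro rfl
        exact hy
      · intro hz
        exact hU.fromSpec.isOpenEmbedding.injective (hz.trans hy.symm)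
    rw [h1]
    exact hx.preimage hU.fromSpec.continuous
  have hmax : y.asIdeal.IsMaximal := (PrimeSpectrum.isClosed_singleton_iff_isMaximal y).1 hcl
  obtain ⟨n, hn⟩ := exists_pow hF hU x hxU hsF
  obtain ⟨n', hn'⟩ := exists_pow hF' hU x hxU hsF'
  have hfin := Groth.Agent.Divis.StalkMod.finite_sections hF hU
  have hfin' := Groth.Agent.Divis.StalkMod.finite_sections hF' hU
  -- the ring-level statement
  have key : (∀ i : ℤ, i ≠ d → Subsingleton
      (Dual.inD Γ(X, U) Γ(F, U) ⟶ (Dual.inD Γ(X, U) Γ(X, U))⟦i⟧)) ∧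
      Nonempty ((Dual.inD Γ(X, U) Γ(F, U) ⟶ (Dual.inD Γ(X, U) Γ(X, U))⟦(d : ℤ)⟧)
        ≃ₗ[Γ(X, U)] Γ(F', U)) := by
    let := Groth.Agent.Divis.StalkMod.stalkAlg x hxU
    let := Groth.Agent.Fdesc.QCohStalk.stalkModule F x hxU
    let := Groth.Agent.Fdesc.QCohStalk.stalkModule F' x hxU
    have hst := Groth.Agent.Divis.StalkMod.isScalarTower_stalk F x hxU
    have hst' := Groth.Agent.Divis.StalkMod.isScalarTower_stalk F' x hxU
    have hloc : IsLocalization.AtPrime (X.presheaf.stalk x) (hU.primeIdealOf ⟨x, hxU⟩).asIdeal :=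
      hU.isLocalization_stalk ⟨x, hxU⟩
    have hl := Groth.Agent.Fdesc.QCohStalk.isLocalizedModule_germ F hU hF.1 x hxU
    have hl' := Groth.Agent.Fdesc.QCohStalk.isLocalizedModule_germ F' hU hF'.1 x hxU
    have := hreg x
    exact K351.LocDualR.main (hU.primeIdealOf ⟨x, hxU⟩).asIdeal (X.presheaf.stalk x) d hd E ι hι
      Γ(F, U) n hn (F.presheaf.stalk x) (Groth.Agent.Fdesc.QCohStalk.germₗ F x hxU)
      Γ(F', U) n' hn' (F'.presheaf.stalk x) (Groth.Agent.Fdesc.QCohStalk.germₗ F' x hxU) hdual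
  let K : DRing.Cx Γ(X, U) :=
    (HomologicalComplex.single (ModuleCat.{u} Γ(X, U)) (.up ℤ) 0).obj (ModuleCat.of Γ(X, U) Γ(F, U))
  let eK : DRing.toD K ≅ Dual.inD Γ(X, U) Γ(F, U) :=
    ((singleFunctorIsoCompQ (ModuleCat.{u} Γ(X, U)) 0).app _).symm
  have := RHomVal.hasRHomCx K
  obtain ⟨e2⟩ := key.2
  obtain ⟨i4⟩ := nonempty_rhom Γ(F, U) Γ(F', U) K eK d key.1 e2
  obtain ⟨i1⟩ := nonempty_rhRes hU.fromSpec (DCoh.inD X F) (DCoh.inD X (Coh.structureModule X))
  let i2 := Groth.Agent.Dual.H326.GorDualSch.restrictStructure (X := X) Γ(X, U) hU.fromSpec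
  obtain ⟨eF⟩ := nonempty_restrict_single F hF.1 hU 0
  obtain ⟨eF'⟩ := nonempty_restrict_single F' hF'.1 hU d
  have hKf : ∀ i : ℤ, Module.Finite Γ(X, U) (Dual.HD Γ(X, U) (DRing.toD K) i) := by
    intro i
    have h0 := Groth.Agent.Localalg.DGor.homology_finite Γ(X, U) Γ(F, U) i
    exact Module.Finite.equiv ((homologyFunctor (ModuleCat.{u} Γ(X, U)) i).mapIso eK.symm).toLinearEquiv
  obtain ⟨i3⟩ := BiAffine.nonempty_RH_tilde Γ(X, U) (Dual.inD Γ(X, U) Γ(X, U)) hω K hKf
    (P := (DCoh.restrictD hU.fromSpec).obj (DCoh.inD X F))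
    (eF ≪≫ (DCoh.tildeD (CommRingCat.of Γ(X, U))).mapIso eK.symm)
  exact ⟨i1 ≪≫ (RH _).mapIso i2 ≪≫ i3 ≪≫ (DCoh.tildeD (CommRingCat.of Γ(X, U))).mapIso i4 ≪≫
    eF'.symm⟩

include k hreg hd hι hF hF' hsF hsF' hdual hx in
/-- `RHom(F, O_X) ≅ F'[-d]`. -/
theorem nonempty_dual :
    Nonempty ((RH (DCoh.inD X F)).obj (DCoh.inD X (Coh.structureModule X)) ≅
      (singleFunctor X.Modules (d : ℤ)).obj F') := by
  obtain ⟨U, hU, hxU⟩ := Groth.Agent.Divis.StalkMod.exists_affine x
  obtain ⟨e⟩ := nonempty_restrict_dual k X hreg x hx d hd E ι hι F F' hF hF' hsF hsF' hdual hU hxU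
  refine nonempty_iso x hx ?_ (isZero_single x hx hsF' d) hU.fromSpec ?_ e
  · obtain ⟨i1⟩ := nonempty_rhRes (compl x hx).ι (DCoh.inD X F)
      (DCoh.inD X (Coh.structureModule X))
    exact (BiAffine.isZero_RH (isZero_single x hx hsF 0) _).of_iso i1
  · rw [hU.range_fromSpec]
    exact hxU

end Main

end K351.LocDualT
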