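import Groth.Agent.DEquiv.K351.LocDualT
import Groth.Agent.DEquiv.K351.LTModIso

/-!
# `Hom(F, M) ≃ H^{-d}(RΓ(M ⊗ᴸ F'))`, naturally in `M`
-/

set_option autoImplicit false

universe u

open CategoryTheory CategoryTheory.Limits AlgebraicGeometry DerivedCategory MonoidalCategory

attribute [local instance] HasDerivedCategory.standard
open scoped Groth.Agent.Dcoh.MonCat Groth.Agent.Dcoh.ModD

namespace K351.LocDualU

open Groth.Agent.PerfC.RHomD Groth.Agent.Dcoh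

/-- Coherent modules on regular schemes are perfect. -/
theorem isPerfect_inD (X : Scheme.{u}) [IsLocallyNoetherian X] (hreg : Models.IsRegularScheme X)
    (F : X.Modules) (hF : Coh.IsCoh F) : DCoh.IsPerfect (DCoh.inD X F) :=
  Groth.Agent.S1005.result X hreg (DCoh.inD X F) 0 0
    (Groth.Agent.PerfA.QCohD.isCohD_inD F hF)

theorem main (X : Scheme.{u}) (F F' : X.Modules) (d : ℕ) (hF : DCoh.IsPerfect (DCoh.inD X F))
    (eV : (RH (DCoh.inD X F)).obj (DCoh.inD X (Coh.structureModule X)) ≅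
      (singleFunctor X.Modules (d : ℤ)).obj F')
    [DCoh.HasLTensorMod F'] [DCoh.HasRΓ X] :
    ∃ e : ∀ M : DCoh.D X, DCoh.IsPerfect M →
        ((DCoh.inD X F ⟶ M) ≃
          ((DerivedCategory.homologyFunctor AddCommGrpCat.{u} (-(d : ℤ))).obj
            ((DCoh.RΓ X).obj ((DCoh.LTensorMod F').obj M)))),
      ∀ (M M' : DCoh.D X) (hM : DCoh.IsPerfect M) (hM' : DCoh.IsPerfect M') (g : M ⟶ M')
        (φ : DCoh.inD X F ⟶ M),
        e M' hM' (φ ≫ g) =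
          ((DerivedCategory.homologyFunctor AddCommGrpCat.{u} (-(d : ℤ))).map
            ((DCoh.RΓ X).map ((DCoh.LTensorMod F').map g))) (e M hM φ) := by
  obtain ⟨fl⟩ := PerfDual.nonempty_flipIso (DCoh.inD X F)
  let adj : tensorRight (DCoh.inD X F) ⊣ RH (DCoh.inD X F) := (rhAdj (DCoh.inD X F)).ofNatIsoLeft fl
  let hp : ExactPairing (DCoh.inD X F) ((RH (DCoh.inD X F)).obj (𝟙_ (DCoh.D X))) :=
    DualX.exactPairing hF adj
  -- the dual
  let v : (RH (DCoh.inD X F)).obj (𝟙_ (DCoh.D X)) ≅ (DCoh.inD X F')⟦-(d : ℤ)⟧ :=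
    (RH (DCoh.inD X F)).mapIso (DualX.unitIso X).symm ≪≫ eV ≪≫
      (((singleFunctors X.Modules).shiftIso (-(d : ℤ)) d 0 (by omega)).app F').symm
  obtain ⟨e1⟩ := K351.LTModIso.nonempty_shift (DCoh.inD X F') (-(d : ℤ))
  obtain ⟨e2⟩ := K351.LTModIso.nonempty_right F'
  let β : tensorRight ((RH (DCoh.inD X F)).obj (𝟙_ (DCoh.D X))) ≅
      DCoh.LTensorMod F' ⋙ shiftFunctor (DCoh.D X) (-(d : ℤ)) :=
    K351.MonAux.trIso v ≪≫ e1 ≪≫ Functor.isoWhiskerRight e2.symm _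
  obtain ⟨ε, hε⟩ := K351.HypGam.exists_equiv X (-(d : ℤ))
  let adj' := tensorRightAdjunction (DCoh.inD X F) ((RH (DCoh.inD X F)).obj (𝟙_ (DCoh.D X)))
  refine ⟨fun M _ => (((λ_ (DCoh.inD X F)).homCongr (Iso.refl M)).symm.trans
    ((adj'.homEquiv (𝟙_ (DCoh.D X)) M).trans
      (((DualX.unitIso X).symm).homCongr (β.app M)))).trans (ε ((DCoh.LTensorMod F').obj M)), ?_⟩
  intro M M' hM hM' g φ
  change ε _ _ = _
  refine Eq.trans (congrArg (ε _) ?_) (hε ((DCoh.LTensorMod F').obj M)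
    ((DCoh.LTensorMod F').obj M') ((DCoh.LTensorMod F').map g) _)
  change (DualX.unitIso X).hom ≫ (adj'.homEquiv (𝟙_ (DCoh.D X)) M')
      ((λ_ (DCoh.inD X F)).hom ≫ (φ ≫ g) ≫ 𝟙 _) ≫ β.hom.app M' =
    ((DualX.unitIso X).hom ≫ (adj'.homEquiv (𝟙_ (DCoh.D X)) M)
      ((λ_ (DCoh.inD X F)).hom ≫ φ ≫ 𝟙 _) ≫ β.hom.app M) ≫
      ((DCoh.LTensorMod F').map g)⟦-(d : ℤ)⟧'
  have h1 : (adj'.homEquiv (𝟙_ (DCoh.D X)) M') ((λ_ (DCoh.inD X F)).hom ≫ (φ ≫ g) ≫ 𝟙 _) =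
      (adj'.homEquiv (𝟙_ (DCoh.D X)) M) ((λ_ (DCoh.inD X F)).hom ≫ φ ≫ 𝟙 _) ≫
        (tensorRight ((RH (DCoh.inD X F)).obj (𝟙_ (DCoh.D X)))).map g := by
    rw [← adj'.homEquiv_naturality_right]
    congr 1
    simp
  rw [h1]
  have h2 := β.hom.naturality g
  simp only [Category.assoc]
  rw [h2]
  rfl

end K351.LocDualU
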