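import Groth.Agent.DEquiv.K351.HomCalc
import Groth.Agent.DEquiv.K351.ClImm
import Groth.Agent.DEquiv.K351.ChowGeo
import Groth.Agent.CohqA.ChowAff
import Groth.Agent.CohqA.ChowAffine
import Groth.Agent.S0921
import Groth.Agent.S1054
import Groth.Agent.S0998
import Groth.Agent.PerfA.CohExtGlue
import Groth.Agent.Dcoh.DerPull2
import Groth.Agent.S1005
import Groth.Agent.S1020
import Groth.Agent.S1021
import Groth.Agent.S1008
import Groth.Agent.Dix.ProjProper
import Groth.Agent.PerfC.RpushBdd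

/-!
# The finiteness criterion for `D^b_coh` on a regular proper scheme, from projective space
-/

set_option autoImplicit false

universe u

open CategoryTheory CategoryTheory.Limits AlgebraicGeometry MonoidalCategory Pretriangulated

attribute [local instance] HasDerivedCategory.standard

namespace K351.RegCrit

open Groth.Agent Groth.Agent.Dcoh K351.HomCalc

section Bounds

variable {k : Type u} [Field k] {X : Scheme.{u}} [X.Over (Spec (CommRingCat.of k))]

lemma hom_shift_zero {E K : DCoh.D X} {i : ℤ} (h : ∀ φ : E ⟶ K⟦i⟧, φ = 0) (ψ : E⟦-i⟧ ⟶ K) :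
    ψ = 0 := by
  let adj : shiftFunctor (DCoh.D X) (-i) ⊣ shiftFunctor (DCoh.D X) i :=
    (shiftEquiv' (DCoh.D X) (-i) i (neg_add_cancel i)).toAdjunction
  apply (adj.homEquiv E K).injective
  rw [h (adj.homEquiv E K ψ), h (adj.homEquiv E K 0)]

/-- An object satisfying the criterion is bounded. -/
theorem exists_bounds [CompactSpace X] [QuasiSeparatedSpace X] (K : DCoh.D X)
    (hK : DCoh.IsQCohD K) (hc : Crit k K) : ∃ a b : ℤ, K.IsGE a ∧ K.IsLE b := by
  obtain ⟨G, hG, hgen⟩ := S1008.result X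
  have hgen' : ∀ E : DCoh.D X, DCoh.IsQCohD E → (∀ (n : ℤ) (φ : G⟦n⟧ ⟶ E), φ = 0) → IsZero E :=
    fun E hE h => (hgen E hE).2 h
  have hfin := (hc G hG).2
  have hz : ∀ i : ℤ, i ∉ {i : ℤ | Nontrivial (G ⟶ (shiftFunctor (DCoh.D X) i).obj K)} →
      ∀ φ : G⟦-i⟧ ⟶ K, φ = 0 := by
    intro i hi φ
    refine hom_shift_zero (fun ψ => ?_) φ
    by_contra hψ
    exact hi ⟨ψ, 0, hψ⟩
  obtain ⟨N, hN⟩ := hfin.bddBelow
  obtain ⟨M, hM⟩ := hfin.bddAbove
  obtain ⟨a, ha⟩ := (S1020.result X G hG hgen' K hK).2 ⟨N - 1, fun i hi φ => hz i (fun h => by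
    have := hN h
    omega) φ⟩
  obtain ⟨b, hb⟩ := (S1021.result X G hG hgen' K hK).2 ⟨M + 1, fun i hi φ => hz i (fun h => by
    have := hM h
    omega) φ⟩
  exact ⟨a, b, ha, hb⟩

end Bounds

/-- An affine scheme of finite type over `S` embeds into a projective space. -/
theorem exists_immersion {U S : Scheme.{u}} [IsAffine U] (g : U ⟶ S) [LocallyOfFiniteType g] :
    ∃ (n : ℕ) (φ : U ⟶ CohB1.ProjSpaceOver n S), IsImmersion φ ∧
      φ ≫ CohB1.ProjSpaceOver.toBase n S = g := by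
  obtain ⟨n, j, hj, h⟩ := CohqA.ChowAffine.exists_immersion_affineSpace g
  obtain ⟨j', hj', h'⟩ := CohqA.ChowAff.exists_immersion n S
  exact ⟨n, j ≫ j', inferInstance, by rw [Category.assoc, h', h]⟩

section Main

variable {k : Type u} [Field k] {X : Scheme.{u}} [X.Over (Spec (CommRingCat.of k))]
  [IsProper (X ↘ Spec (CommRingCat.of k))]

variable (k) in
/-- The hypothesis on projective spaces. -/
def CritP : Prop := ∀ (n : ℕ)
  (M : DCoh.D (CohB1.ProjSpaceOver n (Spec (CommRingCat.of k)))), DCoh.IsQCohD M →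
    Crit k M → SGA6.cohbP _ M

/-- `Rb_*` of a perfect object is perfect, `b` proper with regular Noetherian target. -/
lemma isPerfect_rpush {Z : Scheme.{u}} (hreg : ∀ x : X, IsRegularLocalRing (X.presheaf.stalk x))
    [IsNoetherian X] (b : Z ⟶ X) [IsProper b] [DCoh.HasRpush b] (F : DCoh.D Z)
    (hF : DCoh.IsPerfect F) : DCoh.IsPerfect ((DCoh.Rpush b).obj F) := by
  have h1 : IsLocallyNoetherian Z := LocallyOfFiniteType.isLocallyNoetherian b
  have h2 : CompactSpace Z := QuasiCompact.compactSpace_of_compactSpace b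
  have h3 : IsNoetherian Z := {}
  obtain ⟨hFc, c, d, hc, hd⟩ := S1006.result Z F hF
  obtain ⟨h4, h5, e, h6⟩ := PerfC.RpushBdd.main b F c d hFc
    (fun i => FinHom.isProperOver_of_isProper b (Ega3B.Devissage.isClosed_support (hFc i)))
  exact S1005.result X hreg _ c e h4

open scoped Groth.Agent.Dcoh.MonCat Groth.Agent.Dcoh.ModD in
/-- The criterion passes from `K` on `X` to `Rq_* Lb^* K`. -/
theorem crit_chow (hreg : ∀ x : X, IsRegularLocalRing (X.presheaf.stalk x)) [IsNoetherian X]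
    {Z P : Scheme.{u}} [Z.Over (Spec (CommRingCat.of k))] [P.Over (Spec (CommRingCat.of k))]
    (b : Z ⟶ X) (q : Z ⟶ P) [b.IsOver (Spec (CommRingCat.of k))]
    [q.IsOver (Spec (CommRingCat.of k))] [IsProper b]
    [DCoh.HasRpush b] [DCoh.HasLpull b] [DCoh.HasRpush q] [DCoh.HasLpull q]
    (K : DCoh.D X) (hK : DCoh.IsQCohD K) (hc : Crit k K) :
    Crit k ((DCoh.Rpush q).obj ((DCoh.Lpull b).obj K)) := by
  obtain ⟨_, _, _⟩ := LoccohB.RpushTri.exists_isTriangulated_Rpush q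
  let _ := DerPull.lpullCommShift b
  refine hc.transfer fun E hE => ?_
  obtain ⟨G, hG, h⟩ := exists_chow (k := k) b q (fun F hF => isPerfect_rpush hreg b F hF)
    (fun E hE => S0921.result q E hE) E hE
  refine ⟨G, hG, fun i => ?_⟩
  have hKi : DCoh.IsQCohD (K⟦i⟧) := (DCoh.IsQCohD (X := X)).le_shift i K hK
  let e : (DCoh.Rpush q).obj ((DCoh.Lpull b).obj (K⟦i⟧)) ≅
      ((DCoh.Rpush q).obj ((DCoh.Lpull b).obj K))⟦i⟧ :=
    (DCoh.Rpush q).mapIso (((DCoh.Lpull b).commShiftIso i).app K) ≪≫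
      ((DCoh.Rpush q).commShiftIso i).app _
  exact ⟨(h _ hKi).some ≪≫ₗ LinK.isoLin (R := k) (Iso.refl _) e⟩

theorem main (hP : CritP k) (hreg : ∀ x : X, IsRegularLocalRing (X.presheaf.stalk x))
    (K : DCoh.D X) (hK : DCoh.IsQCohD K) (hc : Crit k K) : SGA6.cohbP X K := by
  have hN : IsNoetherian X := FinHom.isNoetherian_of_proper k X
  obtain ⟨a, b, ha, hb⟩ := exists_bounds K hK hc
  refine ⟨?_, a, b, ha, hb⟩
  apply PerfA.CohExtGlue.isCohD_of_restrictD
  intro x
  obtain ⟨U, hU, hxU, -⟩ := exists_isAffineOpen_mem_and_subset (X := X) (x := x) (U := ⊤) trivial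
  have hUa : IsAffine U := hU
  have hqc : QuasiCompact U.ι := inferInstance
  obtain ⟨n, φ, hφ, hφ'⟩ := exists_immersion (U.ι ≫ (X ↘ Spec (CommRingCat.of k)))
  obtain ⟨Z, V, b, q, e, c, v, h1, h2, h3, h4, h5, h6, h7, h8⟩ :=
    ChowGeo.exists_closure (X ↘ Spec (CommRingCat.of k))
      (CohB1.ProjSpaceOver.toBase n (Spec (CommRingCat.of k))) U.ι φ hφ'.symm
  let _ : Z.Over (Spec (CommRingCat.of k)) := ⟨b ≫ (X ↘ Spec (CommRingCat.of k))⟩
  have hb1 : b.IsOver (Spec (CommRingCat.of k)) := ⟨rfl⟩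
  have hq1 : q.IsOver (Spec (CommRingCat.of k)) := ⟨h1.symm⟩
  have r1 : DCoh.HasRpush b := DerSch.hasRpush b
  have r2 : DCoh.HasLpull b := DerPull.hasLpull b
  have r3 : DCoh.HasRpush q := DerSch.hasRpush q
  have r4 : DCoh.HasLpull q := DerPull.hasLpull q
  have r5 : DCoh.HasRpush c := DerSch.hasRpush c
  have r6 : DCoh.HasLpull e := DerPull.hasLpull e
  have r7 : DCoh.HasLpull (e ≫ b) := DerPull.hasLpull _
  have hM := crit_chow hreg b q K hK hc
  have hMq : DCoh.IsQCohD ((DCoh.Rpush q).obj ((DCoh.Lpull b).obj K)) :=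
    S0998.result q _ (S1054.result b K hK)
  obtain ⟨hMc, -⟩ := hP n _ hMq hM
  obtain ⟨β⟩ := DerSch.exists_rpushRestrictIso (hp := h8)
  have h9 : DCoh.IsCohD ((DCoh.Rpush c).obj ((DCoh.restrictD e).obj ((DCoh.Lpull b).obj K))) :=
    fun i => PerfA.CohSerre.isCoh_of_iso ((DerivedCategory.homologyFunctor _ i).mapIso
      (β.app ((DCoh.Lpull b).obj K))) (PerfA.QCohD.isCohD_restrictD v hMc i)
  have h10 := ClImm.isCohD_of_rpush c _ h9
  have h11 : e ≫ b = U.ι := by rw [h7.w, Category.id_comp]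
  have h12 : IsOpenImmersion (e ≫ b) := by rw [h11]; infer_instance
  obtain ⟨γ⟩ := DerPull.exists_lpullCompIso (f := e) (g := b)
  let ε : (DCoh.restrictD e).obj ((DCoh.Lpull b).obj K) ≅ (DCoh.restrictD (e ≫ b)).obj K :=
    ((DerPull.lpullOpenIso e).symm.app _) ≪≫ γ.app K ≪≫ (DerPull.lpullOpenIso (e ≫ b)).app K
  refine ⟨U, e ≫ b, h12, ⟨x, hxU⟩, ?_, fun i => PerfA.CohSerre.isCoh_of_iso
    ((DerivedCategory.homologyFunctor _ i).mapIso ε) (h10 i)⟩
  rw [h11]
  rfl

end Main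

end K351.RegCrit
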