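import Groth.Agent.DEquiv.K351.RepTot
import Groth.Agent.CohtopB.BrownCore
import Groth.Agent.CohtopA.BrownW

/-!
# Representability of pointwise finite dimensional cohomological functors on compact objects
-/

set_option autoImplicit false

universe w v u v' t

open CategoryTheory CategoryTheory.Limits CategoryTheory.Pretriangulated Opposite
open CategoryTheory.Pretriangulated.Opposite
open K351.RepGraph Groth.Agent.CohtopA.Compact Groth.Agent.CohtopA.BrownW
open Groth.Agent.CohtopB.BrownCore

namespace K351.RepFin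

variable {k : Type*} [Field k] {D : Type u} [Category.{v} D] [Preadditive D] [Linear k D]
  {P : ObjectProperty D} (H : (P.FullSubcategory)ᵒᵖ ⥤ ModuleCat.{v'} k)

/-- Precomposition of families with a morphism. -/
def famMap {Y Y' : D} (g : Y' ⟶ Y) : Fam H Y →+ Fam H Y' where
  toFun a := ⟨fun X => (a.1 X).comp (Linear.rightComp k X.obj g), fun X X' u f => by
    change a.1 X ((u.hom ≫ f) ≫ g) = H.map u.op (a.1 X' (f ≫ g))
    rw [Category.assoc]
    exact a.2 X X' u (f ≫ g)⟩
  map_zero' := rfl
  map_add' _ _ := rfl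

@[simp] lemma famMap_apply {Y Y' : D} (g : Y' ⟶ Y) (a : Fam H Y) (X : P.FullSubcategory)
    (f : X.obj ⟶ Y') : (famMap H g a).1 X f = a.1 X (f ≫ g) := rfl

/-- The functor `Y ↦ Fam Y`. -/
def famF : Dᵒᵖ ⥤ AddCommGrpCat.{max u v v'} where
  obj Y := AddCommGrpCat.of (Fam H Y.unop)
  map g := AddCommGrpCat.ofHom (famMap H g.unop)
  map_id Y := by
    ext a X f
    change a.1 X (f ≫ 𝟙 _) = a.1 X f
    rw [Category.comp_id]
  map_comp g g' := by
    ext a X f
    change a.1 X (f ≫ g'.unop ≫ g.unop) = a.1 X ((f ≫ g'.unop) ≫ g.unop)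
    rw [Category.assoc]

variable {H}

lemma fam_ext {Y : D} {a b : Fam H Y}
    (h : ∀ (X : P.FullSubcategory) (f : X.obj ⟶ Y), a.1 X f = b.1 X f) : a = b := by
  apply Subtype.ext
  funext X
  ext f
  exact h X f

section Coprod

/-- `Fam` sends coproducts to products. -/
theorem coprodToProd_famF (hP : ∀ X : P.FullSubcategory, IsCompactW.{w} X.obj) (κ : Type w) :
    CoprodToProd (famF H) κ where
  bij Y c hc := by
    classical
    constructor
    · intro b b' h
      refine fam_ext fun X f => ?_
      obtain ⟨s, g, hg⟩ := hP X κ Y c hc f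
      rw [hg, map_sum, map_sum]
      refine Finset.sum_congr rfl fun i _ => ?_
      have h1 := congrFun h i
      exact congrArg (fun (z : Fam H (Y i)) => z.1 X (g i)) h1
    · intro a
      have hsupp : ∀ (X : P.FullSubcategory) (f : X.obj ⟶ c.pt),
          (Function.support fun i => (a i).1 X (f ≫ proj hc i)).Finite := by
        intro X f
        obtain ⟨s, hs, -⟩ := IsFiniteSum.eq_sum_proj hc (hP X κ Y c hc f)
        refine s.finite_toSet.subset fun i hi => ?_
        by_contra h
        apply hi
        change (a i).1 X (f ≫ proj hc i) = 0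
        rw [hs i h, map_zero]
      let b : Fam H c.pt := ⟨fun X =>
        { toFun := fun f => ∑ᶠ i, (a i).1 X (f ≫ proj hc i)
          map_add' := fun f f' => by
            rw [← finsum_add_distrib (hsupp X f) (hsupp X f')]
            refine finsum_congr fun i => ?_
            rw [Preadditive.add_comp, map_add]
          map_smul' := fun r f => by
            rw [RingHom.id_apply, smul_finsum' r (hsupp X f)]
            refine finsum_congr fun i => ?_
            rw [Linear.smul_comp, map_smul] }, by
        intro X X' u f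
        change ∑ᶠ i, (a i).1 X ((u.hom ≫ f) ≫ proj hc i) =
          H.map u.op (∑ᶠ i, (a i).1 X' (f ≫ proj hc i))
        have h2 := (H.map u.op).hom.toAddMonoidHom.map_finsum (hsupp X' f)
        refine Eq.trans ?_ h2.symm
        refine finsum_congr fun i => ?_
        rw [Category.assoc]
        exact (a i).2 X X' u (f ≫ proj hc i)⟩
      refine ⟨b, funext fun j => fam_ext fun X f => ?_⟩
      change ∑ᶠ i, (a i).1 X ((f ≫ c.inj j) ≫ proj hc i) = (a j).1 X f
      rw [finsum_eq_single _ j]
      · rw [Category.assoc, inj_proj_self, Category.comp_id]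
      · intro i hi
        rw [Category.assoc, inj_proj_of_ne hc j i hi.symm, comp_zero, map_zero]

end Coprod

section Tri

variable [HasZeroObject D] [HasShift D ℤ] [∀ n : ℤ, (shiftFunctor D n).Additive]
  [Pretriangulated D] [P.IsTriangulated] [P.IsClosedUnderIsomorphisms]
  [H.Additive]

lemma famF_isHomological (hH : Cohom H)
    (hlin : ∀ (X Y : P.FullSubcategory) (r : k) (f : X ⟶ Y),
      H.map (r • f).op = r • H.map f.op) (hfin : ∀ X, Module.Finite k (H.obj X)) :
    (famF H).IsHomological where
  map_zero Y Y' := by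
    ext a
    exact fam_ext fun X f => by
      change a.1 X (f ≫ 0) = 0
      rw [comp_zero, map_zero]
  exact T hT := by
    rw [ShortComplex.ab_exact_iff]
    intro (a : Fam H T.obj₂.unop) (ha : famMap H T.mor₂.unop a = 0)
    have hT' := unop_distinguished T hT
    obtain ⟨b, hb, hb'⟩ := exists_ext hH hlin hfin _ hT' a.1 a.2 (fun X f => by
      exact congrArg (fun (z : Fam H T.obj₃.unop) => z.1 X f) ha)
    exact ⟨⟨b, hb⟩, fam_ext hb'⟩

end Tri

/-- The Yoneda family of an element. -/
def yon (H : (P.FullSubcategory)ᵒᵖ ⥤ ModuleCat.{v'} k) [H.Additive]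
    (hlin : ∀ (X Y : P.FullSubcategory) (r : k) (f : X ⟶ Y),
      H.map (r • f).op = r • H.map f.op) (X : P.FullSubcategory) (h : H.obj (op X)) :
    Fam H X.obj :=
  ⟨fun W =>
    { toFun := fun f => H.map (P.homMk f : W ⟶ X).op h
      map_add' := fun f g => by
        have : (P.homMk (f + g) : W ⟶ X) = P.homMk f + P.homMk g := rfl
        rw [this, op_add, Functor.map_add]
        rfl
      map_smul' := fun r f => by
        have : (P.homMk (r • f) : W ⟶ X) = r • P.homMk f := rfl
        rw [this, hlin]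
        rfl }, by
    intro W W' u f
    change H.map (P.homMk (u.hom ≫ f) : W ⟶ X).op h = H.map u.op (H.map (P.homMk f : W' ⟶ X).op h)
    rw [← ConcreteCategory.comp_apply, ← Functor.map_comp, ← op_comp]
    rfl⟩

lemma bijective_eval (H : (P.FullSubcategory)ᵒᵖ ⥤ ModuleCat.{v'} k) [H.Additive]
    (hlin : ∀ (X Y : P.FullSubcategory) (r : k) (f : X ⟶ Y),
      H.map (r • f).op = r • H.map f.op) (X : P.FullSubcategory) :
    Function.Bijective (fun a : Fam H X.obj => a.1 X (𝟙 X.obj)) := by
  constructor
  · intro a b h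
    refine fam_ext fun W f => ?_
    have h1 := a.2 W X (P.homMk f) (𝟙 X.obj)
    have h2 := b.2 W X (P.homMk f) (𝟙 X.obj)
    have e : (P.homMk f : W ⟶ X).hom ≫ 𝟙 X.obj = f := Category.comp_id _
    rw [e] at h1 h2
    rw [h1, h2]
    exact congrArg _ h
  · intro h
    refine ⟨yon H hlin X h, ?_⟩
    change H.map (P.homMk (𝟙 X.obj) : X ⟶ X).op h = h
    have : (P.homMk (𝟙 X.obj) : X ⟶ X) = 𝟙 X := rfl
    rw [this, op_id, CategoryTheory.Functor.map_id]
    rfl

lemma small_of_finite {V : Type*} [AddCommGroup V] [Module k V] [Module.Finite k V]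
    [Small.{w} k] : Small.{w} V := by
  obtain ⟨n, f, hf⟩ := Module.Finite.exists_fin' k V
  exact small_of_surjective hf

lemma shift_hom_zero [HasShift D ℤ] [∀ n : ℤ, (shiftFunctor D n).Additive] {E X : D} {n : ℤ}
    (h : ∀ g : E⟦-n⟧ ⟶ X, g = 0) (f : E ⟶ X⟦n⟧) : f = 0 := by
  let adj : shiftFunctor D (-n) ⊣ shiftFunctor D n :=
    (shiftEquiv' D (-n) n (neg_add_cancel n)).toAdjunction
  rw [← (adj.homEquiv E X).apply_symm_apply f, h ((adj.homEquiv E X).symm f),
    Adjunction.homEquiv_unit, Functor.map_zero, comp_zero]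

section Rep

variable [HasZeroObject D] [HasShift D ℤ] [∀ n : ℤ, (shiftFunctor D n).Additive]
  [Pretriangulated D] [P.IsTriangulated] [P.IsClosedUnderIsomorphisms]
  [H.Additive] [HasCoproducts.{w} D] [LocallySmall.{w} D]

/-- **Representability** of pointwise finite dimensional cohomological functors on a triangulated
subcategory of compact objects containing a generating family. -/
theorem exists_rep (hP : ∀ X : P.FullSubcategory, IsCompactW.{w} X.obj)
    {ι : Type w} (E : ι → D) (hE : ∀ i, P (E i)) (hgen : CohDer.Generates E)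
    (hH : Cohom H)
    (hlin : ∀ (X Y : P.FullSubcategory) (r : k) (f : X ⟶ Y),
      H.map (r • f).op = r • H.map f.op) (hfin : ∀ X, Module.Finite k (H.obj X))
    (hsmall : ∀ X, Small.{w} (H.obj X)) :
    ∃ (Z : D) (a : ∀ X : P.FullSubcategory, (X.obj ⟶ Z) ≃ₗ[k] H.obj (op X)),
      ∀ (X X' : P.FullSubcategory) (u : X ⟶ X') (f : X'.obj ⟶ Z),
        a X (u.hom ≫ f) = H.map u.op (a X' f) := by
  have h1 : (famF H).IsHomological := famF_isHomological hH hlin hfin
  have h2 : ∀ κ : Type w, CoprodToProd (famF H) κ := coprodToProd_famF hP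
  have hN : HasColimitsOfShape (Discrete ℕ) D := hasColimitsOfShape_small'.{w} D
  let E' : ι × ℤ → D := fun p => (E p.1)⟦p.2⟧
  have hE' : ∀ p, P (E' p) := fun p => P.le_shift p.2 _ (hE p.1)
  have hsm : ∀ (X : D), P X → Small.{w} ((famF H).obj (op X)) := by
    intro X hX
    have := hsmall (op ⟨X, hX⟩)
    exact small_of_injective (bijective_eval H hlin ⟨X, hX⟩).1
  have h3 : ∀ (p : ι × ℤ) (n : ℤ), Small.{w} ((famF H).obj (op ((E' p)⟦n⟧))) :=
    fun p n => hsm _ (P.le_shift n _ (hE' p))
  obtain ⟨Z, b, hb⟩ := exists_bij' (famF H) E' (by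
    intro X hX
    by_contra hcon
    push Not at hcon
    apply hX
    apply hgen
    intro i n f
    exact shift_hom_zero (fun g => hcon (i, -n) g) f) (by
    classical
    intro X i α
    obtain ⟨s, g, hg⟩ := isFiniteSum_of_isCompactW (hP ⟨E' i, hE' i⟩) (coproductIsCoproduct X) α
    refine ⟨fun _ => i, g, ∑ n ∈ s, Sigma.ι (fun _ => E' i) n, ?_⟩
    rw [Preadditive.sum_comp, hg]
    refine Finset.sum_congr rfl fun n _ => ?_
    rw [Sigma.ι_map]
    rfl)
  let b' : Fam H Z := b
  have hbij : ∀ X : P.FullSubcategory, Function.Bijective (b'.1 X) := by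
    intro X
    have h5 := (bijective_eval H hlin X).comp (hb X.obj)
    convert h5 using 1
    funext f
    change b'.1 X f = b'.1 X (𝟙 _ ≫ f)
    rw [Category.id_comp]
  exact ⟨Z, fun X => LinearEquiv.ofBijective (b'.1 X) (hbij X), fun X X' u f => b'.2 X X' u f⟩

end Rep

end K351.RepFin
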