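import Mathlib.CategoryTheory.Triangulated.Subcategory
import Mathlib.CategoryTheory.Preadditive.Opposite
import Mathlib.LinearAlgebra.Basis.VectorSpace
import Mathlib.CategoryTheory.Triangulated.Triangulated
import Mathlib.CategoryTheory.Linear.LinearFunctor
import Mathlib.Algebra.Category.ModuleCat.Basic
import Mathlib.LinearAlgebra.Dual.Lemmas
import Mathlib.LinearAlgebra.FiniteDimensional.Basic
import Mathlib.Order.Zorn

/-!
# Extension of partially defined natural families with values in a pointwise finite dimensional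
cohomological functor

`P` is a triangulated subcategory of `D` and `H : Pᵒᵖ ⥤ Mod k` a `k`-linear cohomological functor with
finite dimensional values.  A partially defined natural family `Hom(-, Y) ⟶ H` (given by its graph `Γ`)
extends to all of `Hom(-, Y)`.
-/

set_option autoImplicit false

universe w v u v'

open CategoryTheory CategoryTheory.Limits CategoryTheory.Pretriangulated Opposite

namespace K351.RepGraph

section Lin

variable {k : Type*} [Field k]

/-- The graph of a partially defined functional extends. -/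
theorem exists_functional {W : Type*} [AddCommGroup W] [Module k W] (R : Submodule k (W × k))
    (hR : ∀ c : k, ((0 : W), c) ∈ R → c = 0) :
    ∃ ψ : W →ₗ[k] k, ∀ (ξ : W) (c : k), (ξ, c) ∈ R → ψ ξ = c := by
  let p : R →ₗ[k] W := (LinearMap.fst k _ _).comp R.subtype
  let q : R →ₗ[k] k := (LinearMap.snd k _ _).comp R.subtype
  have hp : LinearMap.ker p = ⊥ := by
    rw [LinearMap.ker_eq_bot']
    rintro ⟨⟨ξ, c⟩, hm⟩ h0
    have h1 : ξ = 0 := h0
    subst h1
    have h2 := hR c hm
    subst h2
    rfl
  obtain ⟨g, hg⟩ := LinearMap.exists_leftInverse_of_injective p hp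
  refine ⟨q.comp g, fun ξ c hm => ?_⟩
  have h2 : g ξ = ⟨(ξ, c), hm⟩ := LinearMap.congr_fun hg ⟨(ξ, c), hm⟩
  change q (g ξ) = c
  rw [h2]
  rfl

/-- A consistent linear system on a finite dimensional space has a solution. -/
theorem exists_eval {V : Type*} [AddCommGroup V] [Module k V] [Module.Finite k V]
    (R : Submodule k (Module.Dual k V × k))
    (hR : ∀ c : k, ((0 : Module.Dual k V), c) ∈ R → c = 0) :
    ∃ h : V, ∀ (ξ : Module.Dual k V) (c : k), (ξ, c) ∈ R → ξ h = c := by
  obtain ⟨ψ, hψ⟩ := exists_functional R hR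
  refine ⟨(Module.evalEquiv k V).symm ψ, fun ξ c hm => ?_⟩
  rw [← hψ ξ c hm]
  have := congrArg (fun (z : Module.Dual k (Module.Dual k V)) => z ξ)
    ((Module.evalEquiv k V).apply_symm_apply ψ)
  exact this

end Lin

variable {k : Type*} [Field k] {D : Type u} [Category.{v} D] [Preadditive D] [Linear k D]
  {P : ObjectProperty D} (H : (P.FullSubcategory)ᵒᵖ ⥤ ModuleCat.{v'} k)

section Defs

variable (Y : D)

/-- Graphs of partially defined families `Hom(-, Y) ⟶ H`. -/
abbrev Gr : Type _ := ∀ X : P.FullSubcategory, Submodule k ((X.obj ⟶ Y) × H.obj (op X))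

variable {H Y}

/-- The graph is stable under precomposition. -/
def Stable (Γ : Gr H Y) : Prop :=
  ∀ ⦃X X' : P.FullSubcategory⦄ (u : X ⟶ X') (f : X'.obj ⟶ Y) (y : H.obj (op X')),
    (f, y) ∈ Γ X' → ((u.hom ≫ f : X.obj ⟶ Y), H.map u.op y) ∈ Γ X

/-- The graph is the graph of a function. -/
def Func (Γ : Gr H Y) : Prop :=
  ∀ (X : P.FullSubcategory) (y : H.obj (op X)), ((0 : X.obj ⟶ Y), y) ∈ Γ X → y = 0

/-- The function is everywhere defined. -/
def Total (Γ : Gr H Y) : Prop :=
  ∀ (X : P.FullSubcategory) (g : X.obj ⟶ Y), ∃ h : H.obj (op X), (g, h) ∈ Γ X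

end Defs

/-- The functor `H` is cohomological, in elementary form. -/
def Cohom [HasZeroObject D] [HasShift D ℤ] [∀ n : ℤ, (shiftFunctor D n).Additive]
    [Pretriangulated D] : Prop :=
  ∀ T ∈ distTriang D, ∀ (h₁ : P T.obj₁) (h₂ : P T.obj₂) (h₃ : P T.obj₃)
    (y : H.obj (op ⟨T.obj₂, h₂⟩)),
    H.map (ObjectProperty.homMk T.mor₁ :
      (⟨T.obj₁, h₁⟩ : P.FullSubcategory) ⟶ ⟨T.obj₂, h₂⟩).op y = 0 →
    ∃ z : H.obj (op ⟨T.obj₃, h₃⟩),
      H.map (ObjectProperty.homMk T.mor₂ :
        (⟨T.obj₂, h₂⟩ : P.FullSubcategory) ⟶ ⟨T.obj₃, h₃⟩).op z = y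

variable {H}

section Ext

variable [HasZeroObject D] [HasShift D ℤ] [∀ n : ℤ, (shiftFunctor D n).Additive]
  [Pretriangulated D] [P.IsTriangulated] [P.IsClosedUnderIsomorphisms]
  [H.Additive]

/-- If `H(δ) y = 0` for the fibre `δ` of `u` then `y` is in the image of `H(u)`. -/
lemma exists_of_fibre (hH : Cohom H) {W X : P.FullSubcategory} (u : W ⟶ X) (y : H.obj (op W))
    (hy : ∀ (V : P.FullSubcategory) (δ : V ⟶ W), δ ≫ u = 0 → H.map δ.op y = 0) :
    ∃ z : H.obj (op X), H.map u.op z = y := by
  obtain ⟨V, δ, r, hT⟩ := distinguished_cocone_triangle₁ u.hom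
  have hV : P V := P.ext_of_isTriangulatedClosed₁ _ hT W.property X.property
  obtain ⟨z, hz⟩ := hH _ hT hV W.property X.property y (hy ⟨V, hV⟩ (ObjectProperty.homMk δ) (by
    apply P.ι.map_injective
    exact comp_distTriang_mor_zero₁₂ _ hT))
  exact ⟨z, hz⟩

/-- One step of the extension. -/
lemma exists_value (hH : Cohom H) (hfin : ∀ X, Module.Finite k (H.obj X)) {Y : D} (Γ : Gr H Y)
    (hs : Stable Γ) (hf : Func Γ) (X : P.FullSubcategory) (g : X.obj ⟶ Y) :
    ∃ h : H.obj (op X), ∀ (W : P.FullSubcategory) (u : W ⟶ X) (y : H.obj (op W)),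
      ((u.hom ≫ g : W.obj ⟶ Y), y) ∈ Γ W → H.map u.op h = y := by
  have := hfin
  let R : Submodule k (Module.Dual k (H.obj (op X)) × k) :=
    { carrier := {p | ∃ (W : P.FullSubcategory) (u : W ⟶ X) (y : H.obj (op W))
        (μ : Module.Dual k (H.obj (op W))), ((u.hom ≫ g : W.obj ⟶ Y), y) ∈ Γ W ∧
          p.1 = μ.comp (H.map u.op).hom ∧ p.2 = μ y}
      zero_mem' := by
        refine ⟨X, 0, 0, 0, ?_, ?_, ?_⟩
        · have : ((0 : X ⟶ X).hom ≫ g : X.obj ⟶ Y) = 0 := by
            have h0 : (0 : X ⟶ X).hom = 0 := rfl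
            rw [h0, zero_comp]
          rw [this]
          exact (Γ X).zero_mem
        · simp
        · simp
      add_mem' := by
        rintro ⟨ξ, c⟩ ⟨ξ', c'⟩ ⟨W, u, y, μ, h1, h2, h3⟩ ⟨W', u', y', μ', h1', h2', h3'⟩
        dsimp only at h2 h3 h2' h3'
        have hB : P (W.obj ⊞ W'.obj) :=
          P.ext_of_isTriangulatedClosed₂ _ (binaryBiproductTriangle_distinguished W.obj W'.obj)
            W.property W'.property
        let B : P.FullSubcategory := ⟨W.obj ⊞ W'.obj, hB⟩
        let i : W ⟶ B := ObjectProperty.homMk biprod.inl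
        let i' : W' ⟶ B := ObjectProperty.homMk biprod.inr
        let q : B ⟶ W := ObjectProperty.homMk biprod.fst
        let q' : B ⟶ W' := ObjectProperty.homMk biprod.snd
        have hiq : i ≫ q = 𝟙 W := by
          apply P.ι.map_injective; exact biprod.inl_fst
        have hiq' : i ≫ q' = 0 := by
          apply P.ι.map_injective; exact biprod.inl_snd
        have hi'q : i' ≫ q = 0 := by
          apply P.ι.map_injective; exact biprod.inr_fst
        have hi'q' : i' ≫ q' = 𝟙 W' := by
          apply P.ι.map_injective; exact biprod.inr_snd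
        refine ⟨B, q ≫ u + q' ≫ u', H.map q.op y + H.map q'.op y',
          μ.comp (H.map i.op).hom + μ'.comp (H.map i'.op).hom, ?_, ?_, ?_⟩
        · have e : (((q ≫ u + q' ≫ u').hom ≫ g : B.obj ⟶ Y), H.map q.op y + H.map q'.op y') =
              ((q.hom ≫ u.hom ≫ g : B.obj ⟶ Y), H.map q.op y) +
                ((q'.hom ≫ u'.hom ≫ g : B.obj ⟶ Y), H.map q'.op y') := by
            refine Prod.ext ?_ rfl
            have : (q ≫ u + q' ≫ u').hom = q.hom ≫ u.hom + q'.hom ≫ u'.hom := rfl
            change (q ≫ u + q' ≫ u').hom ≫ g = q.hom ≫ u.hom ≫ g + q'.hom ≫ u'.hom ≫ g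
            rw [this, Preadditive.add_comp, Category.assoc, Category.assoc]
          rw [e]
          exact (Γ B).add_mem (hs q _ _ h1) (hs q' _ _ h1')
        · change ξ + ξ' = _
          rw [h2, h2']
          ext z
          have e1 : H.map i.op (H.map (q ≫ u + q' ≫ u').op z) = H.map u.op z := by
            rw [← ConcreteCategory.comp_apply, ← Functor.map_comp, ← op_comp,
              Preadditive.comp_add, ← Category.assoc, ← Category.assoc, hiq, hiq', zero_comp,
              add_zero, Category.id_comp]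
          have e2 : H.map i'.op (H.map (q ≫ u + q' ≫ u').op z) = H.map u'.op z := by
            rw [← ConcreteCategory.comp_apply, ← Functor.map_comp, ← op_comp,
              Preadditive.comp_add, ← Category.assoc, ← Category.assoc, hi'q, hi'q', zero_comp,
              zero_add, Category.id_comp]
          change μ (H.map u.op z) + μ' (H.map u'.op z) =
            μ (H.map i.op (H.map (q ≫ u + q' ≫ u').op z)) +
              μ' (H.map i'.op (H.map (q ≫ u + q' ≫ u').op z))
          rw [e1, e2]
        · change c + c' = _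
          rw [h3, h3']
          have e1 : H.map i.op (H.map q.op y + H.map q'.op y') = y := by
            rw [map_add, ← ConcreteCategory.comp_apply, ← ConcreteCategory.comp_apply,
              ← Functor.map_comp, ← Functor.map_comp, ← op_comp, ← op_comp, hiq, hiq']
            simp
          have e2 : H.map i'.op (H.map q.op y + H.map q'.op y') = y' := by
            rw [map_add, ← ConcreteCategory.comp_apply, ← ConcreteCategory.comp_apply,
              ← Functor.map_comp, ← Functor.map_comp, ← op_comp, ← op_comp, hi'q, hi'q']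
            simp
          change μ y + μ' y' =
            μ (H.map i.op (H.map q.op y + H.map q'.op y')) +
              μ' (H.map i'.op (H.map q.op y + H.map q'.op y'))
          rw [e1, e2]
      smul_mem' := by
        rintro r ⟨ξ, c⟩ ⟨W, u, y, μ, h1, h2, h3⟩
        dsimp only at h2 h3
        refine ⟨W, u, y, r • μ, h1, ?_, ?_⟩
        · change r • ξ = _
          rw [h2]
          rfl
        · change r • c = _
          rw [h3]
          rfl }
  have hR : ∀ c : k, ((0 : Module.Dual k (H.obj (op X))), c) ∈ R → c = 0 := by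
    rintro c ⟨W, u, y, μ, h1, h2, h3⟩
    dsimp only at h2 h3
    obtain ⟨z, hz⟩ := exists_of_fibre hH u y (fun V δ hδ => by
      apply hf V
      have := hs δ _ _ h1
      have e : (δ.hom ≫ u.hom ≫ g : V.obj ⟶ Y) = 0 := by
        have : δ.hom ≫ u.hom = 0 := congrArg (fun z => z.hom) hδ
        rw [← Category.assoc, this, zero_comp]
      rwa [e] at this)
    rw [h3, ← hz]
    exact (LinearMap.congr_fun h2 z).symm
  obtain ⟨h, hh⟩ := exists_eval R hR
  refine ⟨h, fun W u y hm => ?_⟩
  rw [← sub_eq_zero, ← Module.forall_dual_apply_eq_zero_iff k]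
  intro μ
  rw [map_sub, sub_eq_zero]
  exact hh (μ.comp (H.map u.op).hom) (μ y) ⟨W, u, y, μ, hm, rfl, rfl⟩

end Ext

end K351.RepGraph
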