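import Groth.Agent.DEquiv.K351.RepFin
import Groth.Agent.LoccohB.RightAdj2
import Groth.Prelude.Def_SGA6
import Groth.Prelude.Def_KLin

/-!
# Cohomological functors on perfect complexes with finite dimensional values are represented by
objects of `D_QCoh(O_X)`
-/

set_option autoImplicit false

universe u v' w

open CategoryTheory CategoryTheory.Limits CategoryTheory.Pretriangulated AlgebraicGeometry Opposite

attribute [local instance] HasDerivedCategory.standard

namespace K351.RepPerf

open Groth.Agent Groth.Agent.LoccohB Groth.Agent.LoccohB.DQCohTri Groth.Agent.LoccohB.RightAdj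
open K351.RepGraph

variable {k : Type u} [Field k] {X : Scheme.{u}} [X.Over (Spec (CommRingCat.of k))]

variable (X) in
/-- The property of being perfect, in `D_QCoh(O_X)`. -/
abbrev Q : ObjectProperty (DCoh.DQCoh X) :=
  (SGA6.perfP X).inverseImage (ObjectProperty.ι (DCoh.IsQCohD (X := X)))

variable (X) in
/-- The functor from perfect objects in `D_QCoh` to perfect objects in `D(O_X)`. -/
noncomputable def Φ : (Q X).FullSubcategory ⥤ (SGA6.perfP X).FullSubcategory where
  obj K := ⟨K.obj.obj, K.property⟩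
  map f := (SGA6.perfP X).homMk f.hom.hom
  map_id _ := rfl
  map_comp _ _ := rfl

instance : (Φ X).Additive where
  map_add := rfl

lemma perf_iso : (SGA6.perfP X).IsClosedUnderIsomorphisms :=
  ⟨fun e h => PerfA.PerfLocal.isPerfect_of_iso e h⟩

theorem exists_rep_qcoh [CompactSpace X] [QuasiSeparatedSpace X]
    [(SGA6.perfP X).IsTriangulated]
    (H : ((SGA6.perfP X).FullSubcategory)ᵒᵖ ⥤ ModuleCat.{v'} k) [H.Additive]
    (hlin : ∀ (A B : (SGA6.perfP X).FullSubcategory) (r : k) (f : A ⟶ B),
      H.map (r • f).op = r • H.map f.op)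
    (hcoh : Cohom H) (hfin : ∀ E, Module.Finite k (H.obj E)) :
    ∃ (K : DCoh.D X) (a : ∀ E : (SGA6.perfP X).FullSubcategory,
        (E.obj ⟶ K) ≃ₗ[k] H.obj (op E)), DCoh.IsQCohD K ∧
      ∀ (E E' : (SGA6.perfP X).FullSubcategory) (u : E ⟶ E') (f : E'.obj ⟶ K),
        a E (u.hom ≫ f) = H.map u.op (a E' f) := by
  have h0 : (SGA6.perfP X).IsClosedUnderIsomorphisms := perf_iso
  have h1 : (Q X).IsTriangulated := inferInstance
  have h2 : (Q X).IsClosedUnderIsomorphisms := inferInstance
  obtain ⟨G, hG, hG', hG''⟩ := exists_compact_generator X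
  let H' : ((Q X).FullSubcategory)ᵒᵖ ⥤ ModuleCat.{v'} k := (Φ X).op ⋙ H
  have : H'.Additive := inferInstance
  obtain ⟨Z, a, ha⟩ := K351.RepFin.exists_rep.{u} (P := Q X) (H := H')
    (fun K => isCompactW_of_isPerfect K.obj K.property) (fun _ : PUnit.{u + 1} => G)
    (fun _ => hG) hG'' (by
      intro T hT h₁ h₂ h₃ y hy
      exact hcoh _ (Functor.map_distinguished (ObjectProperty.ι (DCoh.IsQCohD (X := X))) T hT)
        h₁ h₂ h₃ y hy) (fun A B r f => hlin _ _ r ((Φ X).map f)) (fun E => hfin _)
    (fun E => by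
      have : Module.Finite k (H'.obj E) := hfin ((Φ X).op.obj E)
      exact K351.RepFin.small_of_finite (k := k))
  have hq : ∀ E : (SGA6.perfP X).FullSubcategory, DCoh.IsQCohD E.obj := fun E =>
    PerfQCoh.isQCohD_of_isPerfect E.property
  let e : ∀ E : (SGA6.perfP X).FullSubcategory, (Q X).FullSubcategory := fun E =>
    ⟨⟨E.obj, hq E⟩, E.property⟩
  refine ⟨Z.obj, fun E =>
    { toFun := fun f => a (e E) (ObjectProperty.homMk f)
      invFun := fun y => ((a (e E)).symm y).hom
      map_add' := fun f g => (a (e E)).map_add _ _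
      map_smul' := fun r f => (a (e E)).map_smul _ _
      left_inv := fun f => by
        dsimp only
        rw [LinearEquiv.symm_apply_apply]
        rfl
      right_inv := fun y => by
        exact (a (e E)).apply_symm_apply y }, Z.property, ?_⟩
  intro E E' u f
  exact ha (e E) (e E') (ObjectProperty.homMk (ObjectProperty.homMk u.hom))
    (ObjectProperty.homMk f)

/-- Conversion to a natural isomorphism. -/
noncomputable def natIsoOfEquiv (H : ((SGA6.perfP X).FullSubcategory)ᵒᵖ ⥤ ModuleCat.{u + 1} k)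
    (K : DCoh.D X) (a : ∀ E : (SGA6.perfP X).FullSubcategory, (E.obj ⟶ K) ≃ₗ[k] H.obj (op E))
    (ha : ∀ (E E' : (SGA6.perfP X).FullSubcategory) (u : E ⟶ E') (f : E'.obj ⟶ K),
        a E (u.hom ≫ f) = H.map u.op (a E' f)) :
    H ≅ (ObjectProperty.ι (SGA6.perfP X)).op ⋙ (linearYoneda k (DCoh.D X)).obj K :=
  NatIso.ofComponents (fun E => (a E.unop).symm.toModuleIso) (by
    intro E E' u
    ext y
    obtain ⟨f, rfl⟩ := (a E.unop).surjective y
    change (a E'.unop).symm (H.map u (a E.unop f)) = u.unop.hom ≫ (a E.unop).symm (a E.unop f)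
    rw [LinearEquiv.symm_apply_apply, LinearEquiv.symm_apply_eq]
    exact (ha _ _ u.unop f).symm)

end K351.RepPerf
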