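import Groth.Agent.DEquiv.K351.RepGraph

/-!
# Total extensions of partially defined families, and the extension property in triangles
-/

set_option autoImplicit false

universe w v u v'

open CategoryTheory CategoryTheory.Limits CategoryTheory.Pretriangulated Opposite

namespace K351.RepGraph

variable {k : Type*} [Field k] {D : Type u} [Category.{v} D] [Preadditive D] [Linear k D]
  {P : ObjectProperty D} {H : (P.FullSubcategory)ᵒᵖ ⥤ ModuleCat.{v'} k}

section Extend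

variable [HasZeroObject D] [HasShift D ℤ] [∀ n : ℤ, (shiftFunctor D n).Additive]
  [Pretriangulated D] [P.IsTriangulated] [P.IsClosedUnderIsomorphisms]
  [H.Additive]

/-- The linear map defining the extension of a graph. -/
def extL (hlin : ∀ (X Y : P.FullSubcategory) (r : k) (f : X ⟶ Y),
    H.map (r • f).op = r • H.map f.op) {Y : D} {X : P.FullSubcategory} (g : X.obj ⟶ Y)
    (h : H.obj (op X)) (W : P.FullSubcategory) :
    (W ⟶ X) →ₗ[k] ((W.obj ⟶ Y) × H.obj (op W)) where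
  toFun u := (u.hom ≫ g, H.map u.op h)
  map_add' u u' := by
    refine Prod.ext ?_ ?_
    · exact Preadditive.add_comp _ _ _ _ _ _
    · change H.map (u + u').op h = H.map u.op h + H.map u'.op h
      rw [op_add, Functor.map_add]
      rfl
  map_smul' r u := by
    refine Prod.ext ?_ ?_
    · exact Linear.smul_comp _ _ _ _ _ _
    · change H.map (r • u).op h = r • H.map u.op h
      rw [hlin]
      rfl

lemma exists_extend (hH : Cohom H) (hlin : ∀ (X Y : P.FullSubcategory) (r : k) (f : X ⟶ Y),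
    H.map (r • f).op = r • H.map f.op) (hfin : ∀ X, Module.Finite k (H.obj X)) {Y : D}
    (Γ : Gr H Y) (hs : Stable Γ) (hf : Func Γ) (X : P.FullSubcategory) (g : X.obj ⟶ Y) :
    ∃ Γ' : Gr H Y, Γ ≤ Γ' ∧ Stable Γ' ∧ Func Γ' ∧ ∃ h : H.obj (op X), (g, h) ∈ Γ' X := by
  obtain ⟨h, hh⟩ := exists_value hH hfin Γ hs hf X g
  refine ⟨fun W => Γ W ⊔ LinearMap.range (extL hlin g h W), fun W => le_sup_left, ?_, ?_, h, ?_⟩
  · intro V W v f y hm
    obtain ⟨q, hq, -, ⟨u, rfl⟩, hqu⟩ := Submodule.mem_sup.1 hm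
    have e1 : f = q.1 + u.hom ≫ g := (congrArg Prod.fst hqu).symm
    have e2 : y = q.2 + H.map u.op h := (congrArg Prod.snd hqu).symm
    refine Submodule.mem_sup.2 ⟨(v.hom ≫ q.1, H.map v.op q.2), hs v _ _ hq, _, ⟨v ≫ u, rfl⟩, ?_⟩
    refine Prod.ext ?_ ?_
    · change v.hom ≫ q.1 + (v ≫ u).hom ≫ g = v.hom ≫ f
      rw [e1, Preadditive.comp_add]
      congr 1
      exact Category.assoc _ _ _
    · change H.map v.op q.2 + H.map (v ≫ u).op h = H.map v.op y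
      rw [e2, map_add, op_comp, Functor.map_comp]
      rfl
  · intro W y hm
    obtain ⟨q, hq, -, ⟨u, rfl⟩, hqu⟩ := Submodule.mem_sup.1 hm
    have e1 : q.1 + u.hom ≫ g = 0 := congrArg Prod.fst hqu
    have e2 : q.2 + H.map u.op h = y := congrArg Prod.snd hqu
    have e3 : q.1 = (-u).hom ≫ g := by
      have : (-u).hom ≫ g = -(u.hom ≫ g) := Preadditive.neg_comp _ _
      rw [this]
      exact eq_neg_of_add_eq_zero_left e1
    have e4 : H.map (-u).op h = q.2 := hh W (-u) q.2 (by rw [← e3]; exact hq)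
    rw [← e2, ← e4, op_neg, Functor.map_neg]
    exact neg_add_cancel _
  · refine Submodule.mem_sup.2 ⟨0, (Γ X).zero_mem, _, ⟨𝟙 X, rfl⟩, ?_⟩
    rw [zero_add]
    refine Prod.ext ?_ ?_
    · exact Category.id_comp _
    · change H.map (𝟙 X).op h = h
      rw [op_id, CategoryTheory.Functor.map_id]
      rfl

/-- Every stable functional graph is contained in a total one. -/
theorem exists_total (hH : Cohom H) (hlin : ∀ (X Y : P.FullSubcategory) (r : k) (f : X ⟶ Y),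
    H.map (r • f).op = r • H.map f.op) (hfin : ∀ X, Module.Finite k (H.obj X)) {Y : D}
    (Γ₀ : Gr H Y) (hs : Stable Γ₀) (hf : Func Γ₀) :
    ∃ Γ : Gr H Y, Γ₀ ≤ Γ ∧ Stable Γ ∧ Func Γ ∧ Total Γ := by
  obtain ⟨Γ, hle, hmax⟩ := zorn_le_nonempty₀ {Γ : Gr H Y | Stable Γ ∧ Func Γ} (by
    intro c hc hchain Γ₁ hΓ₁
    have hdir : ∀ X, DirectedOn (· ≤ ·) ((fun Γ : Gr H Y => Γ X) '' c) := by
      rintro X _ ⟨Γ, hΓ, rfl⟩ _ ⟨Γ', hΓ', rfl⟩
      rcases hchain.total hΓ hΓ' with h | h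
      · exact ⟨_, ⟨Γ', hΓ', rfl⟩, h X, le_rfl⟩
      · exact ⟨_, ⟨Γ, hΓ, rfl⟩, le_rfl, h X⟩
    have hmem : ∀ (X : P.FullSubcategory) (p : (X.obj ⟶ Y) × H.obj (op X)),
        p ∈ sSup ((fun Γ : Gr H Y => Γ X) '' c) ↔ ∃ Γ ∈ c, p ∈ Γ X := by
      intro X p
      rw [Submodule.mem_sSup_of_directed (Set.Nonempty.image _ ⟨Γ₁, hΓ₁⟩) (hdir X)]
      constructor
      · rintro ⟨_, ⟨Γ, hΓ, rfl⟩, hp⟩
        exact ⟨Γ, hΓ, hp⟩
      · rintro ⟨Γ, hΓ, hp⟩
        exact ⟨_, ⟨Γ, hΓ, rfl⟩, hp⟩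
    refine ⟨fun X => sSup ((fun Γ : Gr H Y => Γ X) '' c), ⟨?_, ?_⟩, ?_⟩
    · intro X X' u f y hm
      obtain ⟨Γ, hΓ, hp⟩ := (hmem _ _).1 hm
      exact (hmem _ _).2 ⟨Γ, hΓ, (hc hΓ).1 u f y hp⟩
    · intro X y hm
      obtain ⟨Γ, hΓ, hp⟩ := (hmem _ _).1 hm
      exact (hc hΓ).2 X y hp
    · intro Γ hΓ X
      exact le_sSup ⟨Γ, hΓ, rfl⟩) Γ₀ ⟨hs, hf⟩
  refine ⟨Γ, hle, hmax.prop.1, hmax.prop.2, fun X g => ?_⟩
  obtain ⟨Γ', h1, h2, h3, h, hh⟩ := exists_extend hH hlin hfin Γ hmax.prop.1 hmax.prop.2 X g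
  exact ⟨h, hmax.le_of_ge ⟨h2, h3⟩ h1 X hh⟩

end Extend

variable (H)

/-- Natural linear families `Hom(-, Y) ⟶ H`. -/
def Fam (Y : D) : AddSubgroup (∀ X : P.FullSubcategory, (X.obj ⟶ Y) →ₗ[k] H.obj (op X)) where
  carrier := {a | ∀ (X X' : P.FullSubcategory) (u : X ⟶ X') (f : X'.obj ⟶ Y),
    a X (u.hom ≫ f) = H.map u.op (a X' f)}
  zero_mem' X X' u f := (map_zero (H.map u.op).hom).symm
  add_mem' {a b} ha hb X X' u f := by
    change a X (u.hom ≫ f) + b X (u.hom ≫ f) = H.map u.op (a X' f + b X' f)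
    rw [ha, hb, map_add]
  neg_mem' {a} ha X X' u f := by
    change -(a X (u.hom ≫ f)) = H.map u.op (-(a X' f))
    rw [ha, map_neg]

variable {H}

/-- A total stable functional graph is the graph of a natural family. -/
lemma exists_fam {Y : D} (Γ : Gr H Y) (hs : Stable Γ) (hf : Func Γ) (ht : Total Γ) :
    ∃ a ∈ Fam H Y, ∀ (X : P.FullSubcategory) (f : X.obj ⟶ Y) (y : H.obj (op X)),
      (f, y) ∈ Γ X → a X f = y := by
  have huniq : ∀ (X : P.FullSubcategory) (f : X.obj ⟶ Y) (y y' : H.obj (op X)),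
      (f, y) ∈ Γ X → (f, y') ∈ Γ X → y = y' := by
    intro X f y y' h h'
    have := (Γ X).sub_mem h h'
    rw [← sub_eq_zero]
    refine hf X _ ?_
    have e : (f, y) - (f, y') = ((0 : X.obj ⟶ Y), y - y') := Prod.ext (sub_self f) rfl
    rwa [e] at this
  choose φ hφ using ht
  refine ⟨fun X =>
    { toFun := φ X
      map_add' := fun f g => huniq X _ _ _ (hφ X _) ((Γ X).add_mem (hφ X f) (hφ X g))
      map_smul' := fun r f => huniq X _ _ _ (hφ X _) ((Γ X).smul_mem r (hφ X f)) }, ?_, ?_⟩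
  · intro X X' u f
    exact huniq X _ _ _ (hφ X _) (hs u _ _ (hφ X' f))
  · intro X f y h
    exact huniq X _ _ _ (hφ X f) h

section Tri

variable [HasZeroObject D] [HasShift D ℤ] [∀ n : ℤ, (shiftFunctor D n).Additive]
  [Pretriangulated D] [P.IsTriangulated] [P.IsClosedUnderIsomorphisms]
  [H.Additive]

/-- Extension of natural families in a distinguished triangle. -/
theorem exists_ext (hH : Cohom H) (hlin : ∀ (X Y : P.FullSubcategory) (r : k) (f : X ⟶ Y),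
    H.map (r • f).op = r • H.map f.op) (hfin : ∀ X, Module.Finite k (H.obj X))
    (T : Triangle D) (hT : T ∈ distTriang D)
    (a : ∀ X : P.FullSubcategory, (X.obj ⟶ T.obj₂) →ₗ[k] H.obj (op X)) (ha : a ∈ Fam H T.obj₂)
    (h0 : ∀ (X : P.FullSubcategory) (f : X.obj ⟶ T.obj₁), a X (f ≫ T.mor₁) = 0) :
    ∃ b ∈ Fam H T.obj₃, ∀ (X : P.FullSubcategory) (f : X.obj ⟶ T.obj₂),
      b X (f ≫ T.mor₂) = a X f := by
  let L : ∀ X : P.FullSubcategory, (X.obj ⟶ T.obj₂) →ₗ[k] (X.obj ⟶ T.obj₃) × H.obj (op X) :=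
    fun X => (Linear.rightComp k X.obj T.mor₂).prod (a X)
  let Γ₀ : Gr H T.obj₃ := fun X => LinearMap.range (L X)
  have hs : Stable Γ₀ := by
    rintro X X' u f y ⟨g, hg⟩
    have e1 : g ≫ T.mor₂ = f := congrArg Prod.fst hg
    have e2 : a X' g = y := congrArg Prod.snd hg
    refine ⟨u.hom ≫ g, Prod.ext ?_ ?_⟩
    · change (u.hom ≫ g) ≫ T.mor₂ = u.hom ≫ f
      rw [Category.assoc, e1]
    · change a X (u.hom ≫ g) = H.map u.op y
      rw [ha X X' u g, e2]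
  have hf : Func Γ₀ := by
    rintro X y ⟨g, hg⟩
    have e1 : g ≫ T.mor₂ = 0 := congrArg Prod.fst hg
    have e2 : a X g = y := congrArg Prod.snd hg
    obtain ⟨f, hf⟩ := Triangle.coyoneda_exact₂ T hT g e1
    rw [← e2, hf, h0]
  obtain ⟨Γ, h1, h2, h3, h4⟩ := exists_total hH hlin hfin Γ₀ hs hf
  obtain ⟨b, hb, hb'⟩ := exists_fam Γ h2 h3 h4
  exact ⟨b, hb, fun X f => hb' X _ _ (h1 X ⟨f, rfl⟩)⟩

end Tri

end K351.RepGraph
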